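import Mathlib
import Cfsg.Agent.H7.Quat

/-!
# A 2-group with a unique central involution and a "fixed-point-free-like" automorphism (helper65)

Abstract group-theoretic core of S3740: if `R` is a `2`-subgroup of a group whose only involution
is a central element `z`, normalized by `a`, such that no element of `R` outside `{1, z}` commutes
with its `a`-conjugate, then `R` is a quaternion group of order `8`.
-/

set_option autoImplicit false

namespace Cfsg.Agent.H65.QuatAct

variable {G : Type*} [Group G]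

/-- A `2`-element commuting with two anticommuting elements of order `4` is `1` or `z`. -/
theorem cent_xy (z x y : G) (hz1 : z ≠ 1) (hzz : z * z = 1)
    (hinv : ∀ g : G, g * g = 1 → g = 1 ∨ g = z) (hxx : x * x = z) (hxy : x * y = z * (y * x)) :
    ∀ (j : ℕ) (w : G), w * x = x * w → w * y = y * w → w ^ 2 ^ j = 1 → w = 1 ∨ w = z := by
  intro j
  induction j with
  | zero =>
    intro w _ _ h
    left
    simpa using h
  | succ j ih =>
    intro w hwx hwy h
    have h1 : (w * w) ^ 2 ^ j = 1 := by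
      rw [← pow_two, ← pow_mul, ← pow_succ']
      exact h
    have hwwx : (w * w) * x = x * (w * w) := by
      rw [mul_assoc, hwx, ← mul_assoc, hwx, mul_assoc]
    have hwwy : (w * w) * y = y * (w * w) := by
      rw [mul_assoc, hwy, ← mul_assoc, hwy, mul_assoc]
    rcases ih (w * w) hwwx hwwy h1 with h2 | h2
    · exact hinv w h2
    · exfalso
      have h3 : (w * x) * (w * x) = 1 := by
        calc (w * x) * (w * x) = w * (x * w) * x := by simp only [mul_assoc]
          _ = w * (w * x) * x := by rw [hwx]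
          _ = (w * w) * (x * x) := by simp only [mul_assoc]
          _ = 1 := by rw [h2, hxx, hzz]
      have hcomm' : x * y = y * x := by
        rcases hinv _ h3 with h4 | h4
        · have hw : w = x⁻¹ := eq_inv_of_mul_eq_one_left h4
          rw [hw] at hwy
          calc x * y = x * (y * x⁻¹) * x := by group
            _ = x * (x⁻¹ * y) * x := by rw [hwy]
            _ = y * x := by group
        · have hw : w = x := by
            rw [← hxx] at h4
            exact mul_right_cancel h4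
          rw [hw] at hwy
          exact hwy
      apply hz1
      have : z * (y * x) = 1 * (y * x) := by rw [← hxy, hcomm', one_mul]
      exact mul_right_cancel this

/-- Structure theorem: under the hypotheses described in the module docstring, `R` consists of
the eight elements `w`, `w x⁻¹`, `w y⁻¹`, `w x⁻¹ y⁻¹` with `w ∈ {1, z}`, `y = a x a⁻¹`. -/
theorem structure_thm (z : G) (hz1 : z ≠ 1) (hzz : z * z = 1)
    (hzc : ∀ g, z * g = g * z) (hinv : ∀ g : G, g * g = 1 → g = 1 ∨ g = z)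
    (a : G) (R : Subgroup G) [Finite R] (haR : a ∈ Subgroup.normalizer (R : Set G))
    (hR2 : IsPGroup 2 R)
    (hKL : ∀ s ∈ R, (a * s * a⁻¹) * s = s * (a * s * a⁻¹) → s = 1 ∨ s = z)
    (hnt : ∃ r ∈ R, a * r ≠ r * a) :
    ∃ x ∈ R, x * x = z ∧ x * (a * x * a⁻¹) = z * ((a * x * a⁻¹) * x) ∧
      ∀ r ∈ R, ∃ w, (w = 1 ∨ w = z) ∧ (r = w ∨ r = w * x⁻¹ ∨ r = w * (a * x * a⁻¹)⁻¹ ∨
        r = w * x⁻¹ * (a * x * a⁻¹)⁻¹) := by
  classical
  obtain ⟨r₀, hr₀R, hr₀⟩ := hnt
  have hR : ∀ s, s ∈ R ↔ a * s * a⁻¹ ∈ R := fun s => Subgroup.mem_normalizer_iff.1 haR s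
  have : Fact (Nat.Prime 2) := ⟨Nat.prime_two⟩
  -- central elements of `R` are `1` or `z`
  have hcen : ∀ s ∈ R, (∀ r ∈ R, r * s = s * r) → s = 1 ∨ s = z := by
    intro s hs hc
    exact hKL s hs (hc _ ((hR s).1 hs))
  have hZne : ∃ u : R, u ∉ Subgroup.center R := by
    refine ⟨⟨r₀, hr₀R⟩, fun hmem => ?_⟩
    rw [Subgroup.mem_center_iff] at hmem
    have h1 := hcen r₀ hr₀R (fun r hr => congrArg Subtype.val (hmem ⟨r, hr⟩))
    rcases h1 with h1 | h1
    · apply hr₀
      rw [h1]
      simp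
    · apply hr₀
      rw [h1]
      exact (hzc a).symm
  obtain ⟨u, hu⟩ := hZne
  have : Nontrivial (R ⧸ Subgroup.center R) :=
    ⟨⟨(u : R ⧸ Subgroup.center R), 1, fun h => hu ((QuotientGroup.eq_one_iff u).1 h)⟩⟩
  have hQ : IsPGroup 2 (R ⧸ Subgroup.center R) := hR2.to_quotient _
  have := hQ.center_nontrivial
  obtain ⟨⟨q, hq⟩, hq1⟩ := exists_ne (1 : Subgroup.center (R ⧸ Subgroup.center R))
  obtain ⟨x', rfl⟩ := QuotientGroup.mk_surjective q
  have hx'Z : x' ∉ Subgroup.center R := fun h =>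
    hq1 (Subtype.ext ((QuotientGroup.eq_one_iff x').2 h))
  have hx' : ∀ r' : R, (r' * x')⁻¹ * (x' * r') ∈ Subgroup.center R := by
    intro r'
    rw [Subgroup.mem_center_iff] at hq
    have := hq (r' : R ⧸ Subgroup.center R)
    rw [← QuotientGroup.mk_mul, ← QuotientGroup.mk_mul, QuotientGroup.eq] at this
    exact this
  obtain ⟨x, hxR⟩ := x'
  have hx : ∀ r ∈ R, x * r = r * x ∨ x * r = z * (r * x) := by
    intro r hr
    have h1 := hx' ⟨r, hr⟩
    rw [Subgroup.mem_center_iff] at h1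
    have h2 := hcen ((r * x)⁻¹ * (x * r))
      (R.mul_mem (R.inv_mem (R.mul_mem hr hxR)) (R.mul_mem hxR hr))
      (fun s hs => congrArg Subtype.val (h1 ⟨s, hs⟩))
    rcases h2 with h2 | h2
    · left
      exact (inv_mul_eq_one.1 h2).symm
    · right
      have : x * r = (r * x) * z := by
        rw [← h2]
        group
      rw [this, hzc]
  have hxne : x ≠ 1 ∧ x ≠ z := by
    constructor
    · rintro rfl
      apply hx'Z
      rw [Subgroup.mem_center_iff]
      intro g
      apply Subtype.ext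
      simp
    · rintro rfl
      apply hx'Z
      rw [Subgroup.mem_center_iff]
      intro g
      apply Subtype.ext
      exact (hzc _).symm
  have hxx : x * x = z := by
    have hc : ∀ r ∈ R, r * (x * x) = (x * x) * r := by
      intro r hr
      rcases hx r hr with h | h
      · calc r * (x * x) = (r * x) * x := by simp only [mul_assoc]
          _ = (x * r) * x := by rw [h]
          _ = x * (r * x) := by simp only [mul_assoc]
          _ = x * (x * r) := by rw [h]
          _ = x * x * r := by simp only [mul_assoc]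
      · calc r * (x * x) = (z * z) * (r * x * x) := by rw [hzz, one_mul]; simp only [mul_assoc]
          _ = z * (z * (r * x)) * x := by simp only [mul_assoc]
          _ = z * (x * r) * x := by rw [h]
          _ = x * (z * (r * x)) := by rw [← mul_assoc z x, hzc x]; simp only [mul_assoc]
          _ = x * (x * r) := by rw [h]
          _ = x * x * r := by simp only [mul_assoc]
    rcases hcen (x * x) (R.mul_mem hxR hxR) hc with h | h
    · exfalso
      rcases hinv x h with h' | h'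
      exacts [hxne.1 h', hxne.2 h']
    · exact h
  have hyR : a * x * a⁻¹ ∈ R := (hR x).1 hxR
  have hxy : x * (a * x * a⁻¹) = z * ((a * x * a⁻¹) * x) := by
    rcases hx _ hyR with h | h
    · exfalso
      rcases hKL x hxR h.symm with h' | h'
      exacts [hxne.1 h', hxne.2 h']
    · exact h
  have hyc : ∀ r ∈ R, (a * x * a⁻¹) * r = r * (a * x * a⁻¹) ∨
      (a * x * a⁻¹) * r = z * (r * (a * x * a⁻¹)) := by
    intro r hr
    have hr' : a⁻¹ * r * a ∈ R := by
      rw [hR]
      have : a * (a⁻¹ * r * a) * a⁻¹ = r := by group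
      rw [this]
      exact hr
    rcases hx _ hr' with h | h
    · left
      calc (a * x * a⁻¹) * r = a * (x * (a⁻¹ * r * a)) * a⁻¹ := by group
        _ = a * ((a⁻¹ * r * a) * x) * a⁻¹ := by rw [h]
        _ = r * (a * x * a⁻¹) := by group
    · right
      calc (a * x * a⁻¹) * r = a * (x * (a⁻¹ * r * a)) * a⁻¹ := by group
        _ = a * (z * ((a⁻¹ * r * a) * x)) * a⁻¹ := by rw [h]
        _ = z * (a * ((a⁻¹ * r * a) * x) * a⁻¹) := by
            rw [← mul_assoc a z, ← hzc a]
            simp only [mul_assoc]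
        _ = z * (r * (a * x * a⁻¹)) := by
            congr 1
            group
  have hyx : (a * x * a⁻¹) * x = z * (x * (a * x * a⁻¹)) := by
    rw [hxy, ← mul_assoc, hzz, one_mul]
  have hcent := cent_xy z x (a * x * a⁻¹) hz1 hzz hinv hxx hxy
  have h2el : ∀ r ∈ R, ∃ j : ℕ, r ^ 2 ^ j = 1 := by
    intro r hr
    obtain ⟨j, hj⟩ := hR2 ⟨r, hr⟩
    exact ⟨j, by simpa using congrArg Subtype.val hj⟩
  refine ⟨x, hxR, hxx, hxy, ?_⟩
  intro r hr
  obtain ⟨r₁, hr₁R, hr₁x, hr₁⟩ : ∃ r₁ ∈ R, x * r₁ = r₁ * x ∧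
      (r = r₁ ∨ r = r₁ * (a * x * a⁻¹)⁻¹) := by
    rcases hx r hr with h | h
    · exact ⟨r, hr, h, Or.inl rfl⟩
    · refine ⟨r * (a * x * a⁻¹), R.mul_mem hr hyR, ?_, Or.inr (by group)⟩
      calc x * (r * (a * x * a⁻¹)) = (x * r) * (a * x * a⁻¹) := by simp only [mul_assoc]
        _ = z * (r * x) * (a * x * a⁻¹) := by rw [h]
        _ = z * (r * (x * (a * x * a⁻¹))) := by simp only [mul_assoc]
        _ = z * (r * (z * ((a * x * a⁻¹) * x))) := by rw [hxy]
        _ = (z * z) * (r * ((a * x * a⁻¹) * x)) := by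
            rw [← mul_assoc r z, ← hzc r]
            simp only [mul_assoc]
        _ = r * (a * x * a⁻¹) * x := by rw [hzz, one_mul]; simp only [mul_assoc]
  obtain ⟨r₂, hr₂R, hr₂x, hr₂y, hr₂⟩ : ∃ r₂ ∈ R, x * r₂ = r₂ * x ∧
      (a * x * a⁻¹) * r₂ = r₂ * (a * x * a⁻¹) ∧ (r₁ = r₂ ∨ r₁ = r₂ * x⁻¹) := by
    rcases hyc r₁ hr₁R with h | h
    · exact ⟨r₁, hr₁R, hr₁x, h, Or.inl rfl⟩
    · refine ⟨r₁ * x, R.mul_mem hr₁R hxR, ?_, ?_, Or.inr (by group)⟩
      · rw [← mul_assoc, hr₁x]
      · calc (a * x * a⁻¹) * (r₁ * x) = ((a * x * a⁻¹) * r₁) * x := by simp only [mul_assoc]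
          _ = z * (r₁ * (a * x * a⁻¹)) * x := by rw [h]
          _ = z * (r₁ * ((a * x * a⁻¹) * x)) := by simp only [mul_assoc]
          _ = z * (r₁ * (z * (x * (a * x * a⁻¹)))) := by rw [hyx]
          _ = (z * z) * (r₁ * (x * (a * x * a⁻¹))) := by
              rw [← mul_assoc r₁ z, ← hzc r₁]
              simp only [mul_assoc]
          _ = r₁ * x * (a * x * a⁻¹) := by rw [hzz, one_mul]; simp only [mul_assoc]
  obtain ⟨j, hj⟩ := h2el r₂ hr₂R
  have hw := hcent j r₂ hr₂x.symm hr₂y.symm hj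
  refine ⟨r₂, hw, ?_⟩
  rcases hr₁ with h1 | h1 <;> rcases hr₂ with h2 | h2
  · left
    rw [h1, h2]
  · right; left
    rw [h1, h2]
  · right; right; left
    rw [h1, h2]
  · right; right; right
    rw [h1, h2]

/-- A subgroup consisting of the eight quaternion words in `x`, `y` is quaternion of order `8`. -/
theorem quat_iso (z x y : G) (R : Subgroup G) (hz1 : z ≠ 1) (hzz : z * z = 1)
    (hzc : ∀ g, z * g = g * z) (hxR : x ∈ R) (hyR : y ∈ R) (hxx : x * x = z) (hyy : y * y = z)
    (hxy : x * y = z * (y * x))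
    (hall : ∀ r ∈ R, ∃ w, (w = 1 ∨ w = z) ∧ (r = w ∨ r = w * x⁻¹ ∨ r = w * y⁻¹ ∨
        r = w * x⁻¹ * y⁻¹)) :
    Finite R ∧ Nat.card R = 8 ∧ Nonempty (R ≃* QuaternionGroup 2) := by
  classical
  have hsub : (R : Set G) ⊆ ↑([1, x⁻¹, y⁻¹, x⁻¹ * y⁻¹, z, z * x⁻¹, z * y⁻¹, z * x⁻¹ * y⁻¹] :
      List G).toFinset := by
    intro r hr
    obtain ⟨w, hw, hr'⟩ := hall r hr
    rcases hw with rfl | rfl <;> rcases hr' with rfl | rfl | rfl | rfl <;> simp
  have hfin : Finite R := (Set.Finite.subset (Finset.finite_toSet _) hsub).to_subtype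
  have hle : Nat.card R ≤ 8 := by
    calc Nat.card R = (R : Set G).ncard := Nat.card_coe_set_eq _
      _ ≤ (↑([1, x⁻¹, y⁻¹, x⁻¹ * y⁻¹, z, z * x⁻¹, z * y⁻¹, z * x⁻¹ * y⁻¹] :
          List G).toFinset : Set G).ncard := Set.ncard_le_ncard hsub (Finset.finite_toSet _)
      _ = ([1, x⁻¹, y⁻¹, x⁻¹ * y⁻¹, z, z * x⁻¹, z * y⁻¹, z * x⁻¹ * y⁻¹] :
          List G).toFinset.card := Set.ncard_coe_finset _
      _ ≤ 8 := List.toFinset_card_le _
  have : Fact (Nat.Prime 2) := ⟨Nat.prime_two⟩
  have hx4 : orderOf x = 2 * 2 := by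
    have h1 : ¬ x ^ 2 ^ 1 = 1 := by
      rw [pow_one, pow_two, hxx]
      exact hz1
    have h2 : x ^ 2 ^ (1 + 1) = 1 := by
      have : x ^ 2 ^ (1 + 1) = (x * x) * (x * x) := by
        have h4 : 2 ^ (1 + 1) = 2 + 2 := by norm_num
        rw [h4, pow_add, pow_two]
      rw [this, hxx, hzz]
    exact (orderOf_eq_prime_pow h1 h2).trans (by norm_num)
  have hc : orderOf (⟨x, hxR⟩ : R) = 2 * 2 := by rw [Subgroup.orderOf_mk, hx4]
  have hw : (⟨y, hyR⟩ : R) * ⟨y, hyR⟩ = (⟨x, hxR⟩ : R) ^ 2 := by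
    apply Subtype.ext
    simp only [Subgroup.coe_mul, Subgroup.coe_pow]
    rw [hyy, pow_two, hxx]
  have hcw : (⟨x, hxR⟩ : R) * ⟨y, hyR⟩ = ⟨y, hyR⟩ * (⟨x, hxR⟩ : R)⁻¹ := by
    apply Subtype.ext
    simp only [Subgroup.coe_mul, Subgroup.coe_inv]
    have h1 : x * y * x = y := by
      calc x * y * x = z * (y * x) * x := by rw [hxy]
        _ = z * (y * (x * x)) := by simp only [mul_assoc]
        _ = z * (y * z) := by rw [hxx]
        _ = z * (z * y) := by rw [hzc y]
        _ = y := by rw [← mul_assoc, hzz, one_mul]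
    calc x * y = x * y * x * x⁻¹ := by group
      _ = y * x⁻¹ := by rw [h1]
  obtain ⟨φ, hφ⟩ := Cfsg.Agent.H7.exists_quaternion_hom 2 (by norm_num) _ _ hc hw hcw
  have hcQ : Nat.card (QuaternionGroup 2) = 8 := by
    rw [Nat.card_eq_fintype_card, QuaternionGroup.card]
  have hge : 8 ≤ Nat.card R := by
    rw [← hcQ]
    exact Nat.card_le_card_of_injective φ hφ
  have hcard : Nat.card R = 8 := le_antisymm hle hge
  refine ⟨hfin, hcard, ?_⟩
  have hbij : Function.Bijective φ :=
    (Nat.bijective_iff_injective_and_card φ).2 ⟨hφ, by rw [hcQ, hcard]⟩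
  exact ⟨(MulEquiv.ofBijective φ hbij).symm⟩

end Cfsg.Agent.H65.QuatAct
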