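import Mathlib
import Cfsg.Agent.H45.R2Abs

/-!
# R2 piece A (helper65, for helper45): the 2-part of `|²G₂(q)|` is 8.
-/

set_option autoImplicit false

namespace Cfsg.Agent.H65.R2

theorem arith : Cfsg.Agent.H45.R2.ArithStmt := by
  intro m
  obtain ⟨j, hj⟩ : ∃ j, 3 ^ (2 * m + 1) = 8 * j + 3 := by
    induction m with
    | zero => exact ⟨0, by norm_num⟩
    | succ n ih =>
      obtain ⟨j, hj⟩ := ih
      refine ⟨9 * j + 3, ?_⟩
      have : 3 ^ (2 * (n + 1) + 1) = 9 * 3 ^ (2 * n + 1) := by ring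
      rw [this, hj]; ring
  refine ⟨(8 * j + 3) ^ 3 * (4 * j + 1) * (128 * j ^ 3 + 144 * j ^ 2 + 54 * j + 7), ?_, ?_⟩
  · refine Odd.mul (Odd.mul (Odd.pow ⟨4 * j + 1, by ring⟩) ⟨2 * j, by ring⟩)
      ⟨64 * j ^ 3 + 72 * j ^ 2 + 27 * j + 3, by ring⟩
  · rw [hj]
    have h1 : 8 * j + 3 - 1 = 2 * (4 * j + 1) := by omega
    rw [h1]; ring

example : Cfsg.Agent.H45.R2.ArithStmt := arith

end Cfsg.Agent.H65.R2
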