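import Mathlib
import Cfsg.Agent.H45.R2Abs

/-!
# R2 piece E (helper65, for helper45): a subgroup of order 8 and exponent 2 from
`C ≃* Z₂ × L` and a four-group of `L`.
-/

set_option autoImplicit false

universe u v

namespace Cfsg.Agent.H65.R2

theorem existsE : Cfsg.Agent.H45.R2.ExistsEStmt.{u, v} := by
  intro G _ L _ C Φ V hV hV2
  let T : Subgroup (Multiplicative (ZMod 2) × L) :=
    (⊤ : Subgroup (Multiplicative (ZMod 2))).prod V
  let f : (Multiplicative (ZMod 2) × L) →* G := C.subtype.comp Φ.symm.toMonoidHom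
  have hf : Function.Injective f := by
    intro x y hxy
    exact Φ.symm.injective (Subtype.ext hxy)
  refine ⟨T.map f, ?_, ?_⟩
  · rw [Subgroup.card_map_of_injective hf]
    have h1 : Nat.card T = Nat.card (⊤ : Subgroup (Multiplicative (ZMod 2))) * Nat.card V := by
      rw [← Nat.card_prod]
      exact Nat.card_congr (Subgroup.prodEquiv _ _).toEquiv
    rw [h1, hV, Subgroup.card_top]
    have h2 : Nat.card (Multiplicative (ZMod 2)) = 2 := by
      rw [Nat.card_eq_fintype_card]
      rfl
    rw [h2]
  · rintro x ⟨⟨i, w⟩, hiw, rfl⟩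
    have hw : w ∈ V := (Subgroup.mem_prod.1 hiw).2
    rw [← map_mul]
    have hi : ∀ i : Multiplicative (ZMod 2), i * i = 1 := by decide
    have : ((i, w) : Multiplicative (ZMod 2) × L) * (i, w) = 1 := by
      rw [Prod.mk_mul_mk, hi i, hV2 w hw]
      rfl
    rw [this, map_one]

example : Cfsg.Agent.H45.R2.ExistsEStmt.{u, v} := existsE

end Cfsg.Agent.H65.R2
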