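import Mathlib
import Cfsg.Agent.H45.R2Abs
import Cfsg.Agent.S0807

/-!
# R2 piece L3 (helper65, for helper45): `PSL₂(K)`, `|K|` odd, has a subgroup of order 4 and
exponent 2 (from the count of Klein four-subgroups, `S0807`).
-/

set_option autoImplicit false

universe u

namespace Cfsg.Agent.H65.R2

theorem pslKlein : Cfsg.Agent.H45.R2.PSLKleinStmt.{u} := by
  intro K _ _ hodd
  have h := Cfsg.Agent.S0807.result (F := K) rfl hodd
  have hpos : 0 < Nat.card (Matrix.ProjectiveSpecialLinearGroup (Fin 2) K) := Nat.card_pos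
  have hne : Nonempty {V : Subgroup (Matrix.ProjectiveSpecialLinearGroup (Fin 2) K) //
      IsKleinFour V} := by
    by_contra hcon
    rw [not_nonempty_iff] at hcon
    rw [Nat.card_of_isEmpty] at h
    omega
  obtain ⟨V, hV⟩ := hne
  refine ⟨V, hV.card_four, ?_⟩
  intro x hx
  have h1 : (⟨x, hx⟩ : V) ^ Monoid.exponent V = 1 := Monoid.pow_exponent_eq_one _
  rw [hV.exponent_two] at h1
  have h2 := congrArg Subtype.val h1
  simpa [pow_two] using h2

example : Cfsg.Agent.H45.R2.PSLKleinStmt.{u} := pslKlein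

end Cfsg.Agent.H65.R2
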