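import Mathlib
import Cfsg.Agent.H45.R2Abs

/-!
# R2 piece S (helper65, for helper45): Sylow 2-subgroups of a group of order `8 · odd`
having an elementary abelian subgroup of order 8.
-/

set_option autoImplicit false

universe u

namespace Cfsg.Agent.H65.R2

theorem sylow : Cfsg.Agent.H45.R2.SylowStmt.{u} := by
  intro G _ _ E k hG hk hE hE2 S
  have : Fact (Nat.Prime 2) := ⟨Nat.prime_two⟩
  have hk0 : k ≠ 0 := by
    rintro rfl
    simp at hk
  have hfac : (Nat.card G).factorization 2 = 3 := by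
    rw [hG]
    have h8 : (8 : ℕ) = 2 ^ 3 := by norm_num
    rw [Nat.factorization_mul (by norm_num) hk0, h8, Nat.Prime.factorization_pow Nat.prime_two]
    simp [Nat.factorization_eq_zero_of_not_dvd (hk.not_two_dvd_nat)]
  have hcard : ∀ Q : Sylow 2 G, Nat.card Q = 8 := by
    intro Q
    rw [Sylow.card_eq_multiplicity, hfac]
    norm_num
  refine ⟨hcard S, ?_⟩
  have hEp : IsPGroup 2 E := IsPGroup.of_card (n := 3) (by rw [hE]; norm_num)
  obtain ⟨Q, hQ⟩ := hEp.exists_le_sylow
  have hEQ : E = (Q : Subgroup G) :=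
    Subgroup.eq_of_le_of_card_ge hQ (by rw [hcard Q, hE])
  obtain ⟨g, hg⟩ := MulAction.exists_smul_eq G Q S
  intro x hx
  have hx' : x ∈ ((g • Q : Sylow 2 G) : Subgroup G) := by rw [hg]; exact hx
  rw [Sylow.coe_subgroup_smul, Subgroup.mem_pointwise_smul_iff_inv_smul_mem] at hx'
  rw [← hEQ] at hx'
  have h1 := hE2 _ hx'
  simp only [MulAut.smul_def, MulAut.conj_inv_apply] at h1
  have h2 : g⁻¹ * x * g * (g⁻¹ * x * g) = g⁻¹ * (x * x) * g := by group
  rw [h2] at h1
  have h3 : x * x = g * (g⁻¹ * (x * x) * g) * g⁻¹ := by group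
  rw [h3, h1]
  group

example : Cfsg.Agent.H45.R2.SylowStmt.{u} := sylow

end Cfsg.Agent.H65.R2
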