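import Mathlib
import Cfsg.Prelude.Def_Characters
import Cfsg.Prelude.Def_Blocks
import Cfsg.Agent.H21.BRDefs
import Cfsg.Agent.S4441
import Cfsg.Agent.S0910
import Cfsg.Agent.H78.DefectZero
import Cfsg.Agent.H21.E2Block
import Cfsg.Agent.H21.E2Wbo
import Cfsg.Agent.H21.SimpleTools
import Cfsg.Agent.H81.BlockDeg
import Cfsg.Agent.H81.Reg
import Cfsg.Agent.H4.IrrCount

/-!
# S0999-SETUP (helper65, for helper21): the principal `p`-block data `B0Data` of a
non-abelian simple group with a self-centralizing Sylow `p`-subgroup of order `p`,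
unpacked from `S4441`, `S0910` and the weak block orthogonality consequences of `H21.E2Wbo`.
-/

set_option autoImplicit false
set_option linter.style.haveILetI false

namespace Cfsg.Agent.H65.BR

open Cfsg Cfsg.Agent.H21.BR
open scoped ComplexConjugate

theorem b0_setup {G : Type*} [Group G] [Finite G] [IsSimpleGroup G] (hG : ¬ IsCyclic G)
    (p : ℕ) [Fact p.Prime] (hp2 : p ≠ 2) (P : Sylow p G) (hP : Nat.card (P : Subgroup G) = p)
    (hC : Subgroup.centralizer ((P : Subgroup G) : Set G) = (P : Subgroup G))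
    (e : ℕ) (he : (Subgroup.centralizer ((P : Subgroup G) : Set G)).relIndex
      (Subgroup.normalizer ((P : Subgroup G) : Set G)) = e) (ht : 2 * e ≤ p - 1) :
    ∃ (X Y : Finset (IrrCharacter G)) (δ : IrrCharacter G → ℤ) (ε : ℤ),
      B0Data p (P : Subgroup G) e X Y δ ε := by
  classical
  have hp : p.Prime := Fact.out
  have hp3 : 3 ≤ p := by
    have := hp.two_le
    omega
  -- `G` is not abelian
  have hna : ∃ u v : G, u * v ≠ v * u := by
    by_contra h
    push Not at h
    apply hG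
    letI : CommGroup G := { ‹Group G› with mul_comm := h }
    exact IsSimpleGroup.isCyclic
  have hGc : ¬ IsMulCommutative G := by
    intro hc
    obtain ⟨u, v, huv⟩ := hna
    exact huv (hc.is_comm.comm u v)
  obtain ⟨d, hd, hd1, hddvd, -⟩ := Cfsg.Agent.H21.simple_sylow_prime_card_NC hGc P hP
  rw [he] at hd
  have hedvd : e ∣ p - 1 := by rw [← hd]; exact hddvd
  clear hd hd1 hddvd d
  have he0 : 0 < e := Nat.pos_of_dvd_of_pos hedvd (by omega)
  have ht2 : 2 ≤ (p - 1) / e := by
    rw [Nat.le_div_iff_mul_le he0]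
    exact ht
  let _ : Fintype G := Fintype.ofFinite G
  have := Cfsg.Agent.H4.finite_irr G
  obtain ⟨M, hM⟩ := Cfsg.Agent.H78.exists_isPModular p hp
  obtain ⟨X, Y, hB, hdisj, hX, hY, εX, ε, hXp, hε, hYdeg, hYeq, hYsum⟩ :=
    Cfsg.Agent.S4441.result p M hM hp2 P hP e he
  rw [Nat.card_coe_set_eq] at hX hY
  have hXfin : X.Finite := Set.toFinite _
  have hYfin : Y.Finite := Set.toFinite _
  have hval1 : ∀ ζ : IrrCharacter G, (ζ : G → ℂ) 1 = (charDegree (ζ : G → ℂ) : ℂ) :=
    fun ζ => (Cfsg.Agent.H81.irr_charDegree ζ).1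
  have hpos : ∀ ζ : IrrCharacter G, 0 < charDegree (ζ : G → ℂ) :=
    fun ζ => (Cfsg.Agent.H81.irr_charDegree ζ).2
  have h0B : one G ∈ principalBlock M G := Cfsg.Agent.H81.mem_blockOf_self hM (one G)
  have hdeg0 : charDegree ((one G : IrrCharacter G) : G → ℂ) = 1 := by
    have := hval1 (one G)
    rw [Cfsg.Agent.H21.E2Block.triv_apply] at this
    exact_mod_cast this.symm
  have hXB : ∀ χ ∈ X, χ ∈ principalBlock M G := fun χ hχ => by rw [hB]; exact Or.inl hχ
  have hYB : ∀ χ ∈ Y, χ ∈ principalBlock M G := fun χ hχ => by rw [hB]; exact Or.inr hχ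
  -- nontrivial members of the principal block have degree at least 2
  have hge2 : ∀ χ ∈ principalBlock M G, χ ≠ one G → 2 ≤ charDegree (χ : G → ℂ) := by
    intro χ hχ hne
    have h1 : charDegree (χ : G → ℂ) ≠ 1 := by
      intro h1
      have hdeg : (χ : G → ℂ) 1 = ((p : ℕ) : ℂ) ^ 0 := by rw [hval1, h1]; simp
      have := Cfsg.Agent.S0910.result p M hM hna χ hχ 0 hdeg
      exact hne (Subtype.ext this)
    have := hpos χ
    omega
  have hreg1 : ¬ p ∣ orderOf (1 : G) := by
    rw [orderOf_one]; exact hp.not_dvd_one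
  -- the trivial character lies in `X`
  have h0X : one G ∈ X := by
    by_contra h0X
    have h0Y : one G ∈ Y := by
      rw [hB] at h0B
      rcases h0B with h | h
      · exact absurd h h0X
      · exact h
    have hYall : ∀ θ' ∈ Y, θ' = one G := by
      intro θ' hθ'
      by_contra hne
      have h1 := hYeq θ' hθ' (one G) h0Y 1 hreg1
      rw [hval1, hval1, hdeg0] at h1
      have h2 : charDegree (θ' : G → ℂ) = 1 := by exact_mod_cast h1
      have := hge2 θ' (hYB θ' hθ') hne
      omega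
    have hYone : (p - 1) / e = 1 := by
      rw [← hY, Set.eq_singleton_iff_unique_mem.2 ⟨h0Y, hYall⟩, Set.ncard_singleton]
    omega
  have hs0 : εX (one G) = 1 := by
    obtain ⟨h1, h2, -⟩ := hXp _ h0X
    rw [hdeg0] at h2
    have h3 := h2.dvd
    rcases h1 with h1 | h1
    · exact h1
    · exfalso
      rw [h1] at h3
      have h4 : (p : ℤ) ∣ 2 := by
        have : (-1 : ℤ) - ((1 : ℕ) : ℤ) = -2 := by norm_num
        rw [this] at h3
        exact (dvd_neg).1 h3
      have h5 : p ∣ 2 := by exact_mod_cast h4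
      have := Nat.le_of_dvd (by norm_num) h5
      omega
  have hout : ∀ ψ : IrrCharacter G, ψ ∉ hXfin.toFinset → ψ ∉ hYfin.toFinset →
      ψ ∉ principalBlock M G := by
    intro ψ h1 h2 h3
    rw [Set.Finite.mem_toFinset] at h1 h2
    rw [hB] at h3
    rcases h3 with h3 | h3
    · exact h1 h3
    · exact h2 h3
  refine ⟨hXfin.toFinset, hYfin.toFinset, εX, ε, ?_⟩
  constructor
  · -- disj
    rw [Set.Finite.disjoint_toFinset]
    exact hdisj
  · -- cardX
    rw [← Set.ncard_eq_toFinset_card _ hXfin, hX]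
  · -- cardY
    rw [← Set.ncard_eq_toFinset_card _ hYfin, hY]
    exact Nat.div_mul_cancel hedvd
  · -- one_mem
    rw [Set.Finite.mem_toFinset]
    exact h0X
  · exact hs0
  · -- δ_pm
    intro χ hχ
    rw [Set.Finite.mem_toFinset] at hχ
    exact (hXp χ hχ).1
  · exact hε
  · -- val_X
    intro χ hχ x hx hx1
    rw [Set.Finite.mem_toFinset] at hχ
    have := (hXp χ hχ).2.2 x hx hx1 1 (Subgroup.one_mem _) hreg1
    rwa [mul_one] at this
  · -- agree_Y
    intro θ hθ θ' hθ' g hg
    rw [Set.Finite.mem_toFinset] at hθ hθ'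
    exact hYeq θ hθ θ' hθ' g hg
  · -- rel
    intro θ hθ g hg
    rw [Set.Finite.mem_toFinset] at hθ
    rw [hYsum θ hθ g hg, finsum_mem_eq_finite_toFinset_sum _ hXfin]
  · -- out_dvd
    intro ψ h1 h2
    exact Cfsg.Agent.H21.E2Block.outside_dvd p M hM P hP hC ψ (hout ψ h1 h2)
  · -- out_van
    intro ψ h1 h2 x hx hx1
    exact Cfsg.Agent.H21.E2Block.outside_vanish p M hM P hP hC ψ (hout ψ h1 h2) x hx hx1
  · -- deg_X
    intro χ hχ
    rw [Set.Finite.mem_toFinset] at hχ
    exact (hXp χ hχ).2.1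
  · -- deg_Y
    intro θ hθ
    rw [Set.Finite.mem_toFinset] at hθ
    exact hYdeg θ hθ
  · -- two_le_X
    intro χ hχ hne
    rw [Set.Finite.mem_toFinset] at hχ
    exact hge2 χ (hXB χ hχ) hne
  · -- two_le_Y
    intro θ hθ
    rw [Set.Finite.mem_toFinset] at hθ
    refine hge2 θ (hYB θ hθ) ?_
    intro h
    exact Set.disjoint_left.1 hdisj h0X (h ▸ hθ)

example {G : Type*} [Group G] [Finite G] [IsSimpleGroup G] (hG : ¬ IsCyclic G)
    (p : ℕ) [Fact p.Prime] (hp2 : p ≠ 2) (P : Sylow p G) (hP : Nat.card (P : Subgroup G) = p)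
    (hC : Subgroup.centralizer ((P : Subgroup G) : Set G) = (P : Subgroup G))
    (e : ℕ) (he : (Subgroup.centralizer ((P : Subgroup G) : Set G)).relIndex
      (Subgroup.normalizer ((P : Subgroup G) : Set G)) = e) (ht : 2 * e ≤ p - 1) :
    ∃ (X Y : Finset (IrrCharacter G)) (δ : IrrCharacter G → ℤ) (ε : ℤ),
      B0Data p (P : Subgroup G) e X Y δ ε := b0_setup hG p hp2 P hP hC e he ht

end Cfsg.Agent.H65.BR
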