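import Mathlib

/-!
helper65: a finite group `N` with a subgroup `A ≤ Aut N` such that `N` has no proper nontrivial
normal `A`-invariant subgroup is a direct power of a simple group (a subgroup of `N`).
Applications: minimal normal subgroups, characteristically simple groups.
-/

set_option autoImplicit false

namespace Cfsg.Agent.H65

section MaxInd
variable {X : Type*} [Group X]

/-- `M` is a minimal normal subgroup of `X`. -/
def IsMinNormal (M : Subgroup X) : Prop :=
  M.Normal ∧ M ≠ ⊥ ∧ ∀ N : Subgroup X, N.Normal → N ≤ M → N = ⊥ ∨ N = M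

theorem disjoint_sup_of_normal (A B C : Subgroup X) [B.Normal] [C.Normal]
    (h1 : Disjoint A B) (h2 : Disjoint (A ⊔ B) C) : Disjoint A (B ⊔ C) := by
  rw [Subgroup.disjoint_def] at *
  intro a ha hbc
  rw [← SetLike.mem_coe, Subgroup.mul_normal] at hbc
  obtain ⟨b, hb, c, hc, rfl⟩ := hbc
  have hc1 : c = 1 := by
    apply h2 _ hc
    have : c = b⁻¹ * (b * c) := by group
    rw [this]
    exact Subgroup.mul_mem _ (Subgroup.mem_sup_right (B.inv_mem hb)) (Subgroup.mem_sup_left ha)
  subst hc1
  simp only [mul_one] at ha ⊢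
  exact h1 ha hb

/-- From any set of minimal normal subgroups one can extract an independent subset with the same
join. -/
theorem exists_indep_subset [Finite X] (𝒞 : Set (Subgroup X)) (h𝒞 : ∀ M ∈ 𝒞, IsMinNormal M) :
    ∃ s : Set (Subgroup X), s ⊆ 𝒞 ∧ sSupIndep s ∧ sSup s = sSup 𝒞 := by
  classical
  obtain ⟨s, -, hs⟩ := Finite.exists_le_maximal
    (p := fun s : Set (Subgroup X) => s ⊆ 𝒞 ∧ sSupIndep s)
    (a := ∅) ⟨Set.empty_subset _, sSupIndep_empty⟩
  obtain ⟨⟨hsMN, hsind⟩, hsmax⟩ := hs
  have hsnormal : (sSup s).Normal := Subgroup.sSup_normal _ (fun H hH => (h𝒞 _ (hsMN hH)).1)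
  have hall : ∀ M ∈ 𝒞, M ≤ sSup s := by
    intro M hM
    by_contra hMs
    have hMnot : M ∉ s := fun h => hMs (le_sSup h)
    have hMnormal : M.Normal := (h𝒞 M hM).1
    have hdisj : Disjoint M (sSup s) := by
      rw [disjoint_iff]
      have hN : (M ⊓ sSup s).Normal := inferInstance
      rcases (h𝒞 M hM).2.2 _ hN inf_le_left with h | h
      · exact h
      · exact absurd (h ▸ inf_le_right) hMs
    have hind : sSupIndep (insert M s) := by
      intro a ha
      rcases ha with rfl | ha
      · have : insert a s \ {a} = s := by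
          ext x; simp only [Set.mem_sdiff, Set.mem_insert_iff, Set.mem_singleton_iff]
          constructor
          · rintro ⟨h | h, h'⟩
            · exact absurd h h'
            · exact h
          · intro h; exact ⟨Or.inr h, fun hx => hMnot (hx ▸ h)⟩
        rw [this]; exact hdisj
      · have hne : a ≠ M := fun h => hMnot (h ▸ ha)
        have : insert M s \ {a} = insert M (s \ {a}) := by
          ext x; simp only [Set.mem_sdiff, Set.mem_insert_iff, Set.mem_singleton_iff]
          constructor
          · rintro ⟨h | h, h'⟩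
            · exact Or.inl h
            · exact Or.inr ⟨h, h'⟩
          · rintro (h | ⟨h, h'⟩)
            · exact ⟨Or.inl h, fun hx => hne (hx ▸ h)⟩
            · exact ⟨Or.inr h, h'⟩
        rw [this, sSup_insert, sup_comm]
        have hB : (sSup (s \ {a})).Normal :=
          Subgroup.sSup_normal _ (fun H hH => (h𝒞 _ (hsMN hH.1)).1)
        apply disjoint_sup_of_normal _ _ _ (hsind ha)
        have : a ⊔ sSup (s \ {a}) = sSup s := by
          rw [← sSup_insert]
          congr 1
          ext x; simp only [Set.mem_sdiff, Set.mem_insert_iff, Set.mem_singleton_iff]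
          constructor
          · rintro (h | ⟨h, -⟩)
            · exact h ▸ ha
            · exact h
          · intro h
            by_cases hx : x = a
            · exact Or.inl hx
            · exact Or.inr ⟨h, hx⟩
        rw [this]; exact hdisj.symm
    have hsub : insert M s ⊆ 𝒞 := Set.insert_subset hM hsMN
    have := hsmax ⟨hsub, hind⟩ (Set.subset_insert M s)
    exact hMnot (this (Set.mem_insert M s))
  exact ⟨s, hsMN, hsind, le_antisymm (sSup_le_sSup hsMN) (sSup_le hall)⟩

/-- An independent family of normal subgroups with join `⊤` gives a direct product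
decomposition. -/
theorem pi_equiv_of_indep [Finite X] (s : Set (Subgroup X)) (hn : ∀ M ∈ s, M.Normal)
    (hind : sSupIndep s) (htop : sSup s = ⊤) :
    Nonempty ((∀ i : s, ↥(i : Subgroup X)) ≃* X) := by
  classical
  have : Fintype s := Fintype.ofFinite _
  have hcomm : Pairwise fun i j : s =>
      ∀ x y : X, x ∈ (i : Subgroup X) → y ∈ (j : Subgroup X) → Commute x y := by
    intro i j hij x y hx hy
    have hd : Disjoint (i : Subgroup X) (j : Subgroup X) :=
      hind.pairwiseDisjoint i.2 j.2 (fun h => hij (Subtype.ext h))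
    exact Subgroup.commute_of_normal_of_disjoint _ _ (hn _ i.2) (hn _ j.2) hd x y hx hy
  have hind' : iSupIndep (fun i : s => (i : Subgroup X)) := (sSupIndep_iff s).mp hind
  have hinj := Subgroup.injective_noncommPiCoprod_of_iSupIndep (hcomm := hcomm) hind'
  have hsurj : Function.Surjective (Subgroup.noncommPiCoprod hcomm) := by
    rw [← MonoidHom.range_eq_top, Subgroup.noncommPiCoprod_range, ← sSup_eq_iSup', htop]
  exact ⟨MulEquiv.ofBijective _ ⟨hinj, hsurj⟩⟩

/-- A member of an independent family of minimal normal subgroups with join `⊤` is simple. -/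
theorem isSimpleGroup_of_mem_indep (s : Set (Subgroup X)) (hs : ∀ M ∈ s, IsMinNormal M)
    (hind : sSupIndep s) (htop : sSup s = ⊤) (C : Subgroup X) (hC : C ∈ s) : IsSimpleGroup C := by
  rw [Subgroup.isSimpleGroup_iff]
  refine ⟨(hs C hC).2.1, ?_⟩
  intro H' hH'C hnorm
  rw [Subgroup.normal_subgroupOf_iff_le_normalizer hH'C] at hnorm
  have hH'n : H'.Normal := by
    rw [← Subgroup.normalizer_eq_top_iff, eq_top_iff, ← htop]
    apply sSup_le
    intro D hD
    by_cases hDC : D = C
    · rw [hDC]; exact hnorm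
    · have hd : Disjoint D C := hind.pairwiseDisjoint hD hC hDC
      have h1 : D ≤ Subgroup.centralizer (C : Set X) := by
        intro d hd'
        rw [Subgroup.mem_centralizer_iff]
        intro c hc
        exact (Subgroup.commute_of_normal_of_disjoint _ _ (hs D hD).1 (hs C hC).1 hd d c hd'
          hc).eq.symm
      exact h1.trans ((Subgroup.centralizer_le hH'C).trans
        (Subgroup.centralizer_le_normalizer _))
  exact (hs C hC).2.2 H' hH'n hH'C

end MaxInd

section Main
variable {N : Type*} [Group N]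

/-- existence of a minimal normal subgroup in a nontrivial finite group -/
theorem exists_isMinNormal [Finite N] [Nontrivial N] : ∃ T : Subgroup N, IsMinNormal T := by
  obtain ⟨T, -, hT⟩ := Finite.exists_le_minimal (p := fun M : Subgroup N => M.Normal ∧ M ≠ ⊥)
    (a := ⊤) ⟨inferInstance, top_ne_bot⟩
  refine ⟨T, hT.1.1, hT.1.2, ?_⟩
  intro K hK hKT
  by_cases hKb : K = ⊥
  · exact Or.inl hKb
  · exact Or.inr (le_antisymm hKT (hT.2 ⟨hK, hKb⟩ hKT))

/-- the image of a minimal normal subgroup under an automorphism is minimal normal -/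
theorem IsMinNormal.map_equiv {T : Subgroup N} (hT : IsMinNormal T) (φ : N ≃* N) :
    IsMinNormal (T.map φ.toMonoidHom) := by
  refine ⟨hT.1.map _ φ.surjective, ?_, ?_⟩
  · rw [Ne, Subgroup.map_eq_bot_iff_of_injective T φ.injective]; exact hT.2.1
  · intro K hK hKT
    have h1 : (K.comap φ.toMonoidHom).Normal := hK.comap _
    have h2 : K.comap φ.toMonoidHom ≤ T := by
      intro x hx
      obtain ⟨t, ht, htx⟩ := hKT (Subgroup.mem_comap.mp hx)
      have : t = x := φ.injective htx
      exact this ▸ ht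
    have h3 : (K.comap φ.toMonoidHom).map φ.toMonoidHom = K :=
      Subgroup.map_comap_eq_self_of_surjective φ.surjective K
    rcases hT.2.2 _ h1 h2 with h | h
    · left; rw [← h3, h, Subgroup.map_bot]
    · right; rw [← h3, h]

/-- **Main structure theorem.** If `N` is a nontrivial finite group and `A` a subgroup of
`Aut N` such that the only normal `A`-invariant subgroups of `N` are `⊥` and `⊤`, then `N` is
isomorphic to a direct power of a simple subgroup. -/
theorem exists_simple_power [Finite N] [Nontrivial N] (A : Subgroup (MulAut N))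
    (hmin : ∀ M : Subgroup N, M.Normal →
      (∀ φ ∈ A, M.map (φ : N ≃* N).toMonoidHom ≤ M) → M = ⊥ ∨ M = ⊤) :
    ∃ (T : Subgroup N) (m : ℕ), IsSimpleGroup T ∧ 0 < m ∧ Nonempty (N ≃* (Fin m → T)) := by
  classical
  obtain ⟨T0, hT0⟩ := exists_isMinNormal (N := N)
  set 𝒞 : Set (Subgroup N) := {M | ∃ φ ∈ A, M = T0.map (φ : N ≃* N).toMonoidHom} with h𝒞def
  have h𝒞 : ∀ M ∈ 𝒞, IsMinNormal M := by
    rintro M ⟨φ, -, rfl⟩
    exact hT0.map_equiv φ
  have hJn : (sSup 𝒞).Normal := Subgroup.sSup_normal _ (fun M hM => (h𝒞 M hM).1)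
  have hJinv : ∀ ψ ∈ A, (sSup 𝒞).map (ψ : N ≃* N).toMonoidHom ≤ sSup 𝒞 := by
    intro ψ hψ
    rw [Subgroup.map_le_iff_le_comap]
    apply sSup_le
    rintro M ⟨φ, hφ, rfl⟩
    rw [← Subgroup.map_le_iff_le_comap]
    apply le_sSup
    refine ⟨ψ * φ, A.mul_mem hψ hφ, ?_⟩
    rw [Subgroup.map_map]
    rfl
  have hT0mem : T0 ∈ 𝒞 := ⟨1, A.one_mem, by
    ext x
    simp⟩
  have hJtop : sSup 𝒞 = ⊤ := by
    rcases hmin _ hJn hJinv with h | h
    · exfalso
      apply hT0.2.1
      rw [eq_bot_iff, ← h]
      exact le_sSup hT0mem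
    · exact h
  obtain ⟨s, hs𝒞, hsind, hssup⟩ := exists_indep_subset 𝒞 h𝒞
  rw [hJtop] at hssup
  have hsne : s.Nonempty := by
    by_contra hempty
    rw [Set.not_nonempty_iff_eq_empty] at hempty
    rw [hempty, sSup_empty] at hssup
    exact bot_ne_top hssup
  obtain ⟨C0, hC0⟩ := hsne
  have hsimple : IsSimpleGroup C0 :=
    isSimpleGroup_of_mem_indep s (fun M hM => h𝒞 M (hs𝒞 hM)) hsind hssup C0 hC0
  have hiso : ∀ M ∈ 𝒞, Nonempty (M ≃* T0) := by
    rintro M ⟨φ, -, rfl⟩
    exact ⟨(φ.subgroupMap T0).symm⟩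
  obtain ⟨e0⟩ := hiso C0 (hs𝒞 hC0)
  have hiso' : ∀ i : s, Nonempty (↥(i : Subgroup N) ≃* C0) := by
    intro i
    obtain ⟨e⟩ := hiso i (hs𝒞 i.2)
    exact ⟨e.trans e0.symm⟩
  obtain ⟨eN⟩ := pi_equiv_of_indep s (fun M hM => (h𝒞 M (hs𝒞 hM)).1) hsind hssup
  have hfin : Finite ↥s := inferInstance
  obtain ⟨m, ⟨em⟩⟩ := Finite.exists_equiv_fin ↥s
  refine ⟨C0, m, hsimple, ?_, ⟨?_⟩⟩
  · rcases Nat.eq_zero_or_pos m with h | h
    · subst h
      exact (IsEmpty.false (em ⟨C0, hC0⟩)).elim
    · exact h
  · exact eN.symm.trans ((MulEquiv.piCongrRight (fun i => (hiso' i).some)).trans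
      (MulEquiv.arrowCongr em (MulEquiv.refl _)))

/-- every finite group has a copy in `Type` -/
theorem exists_type_zero (T : Type*) [Group T] [Finite T] :
    ∃ (T' : Type) (_ : Group T'), Nonempty (T ≃* T') :=
  ⟨Shrink.{0} T, inferInstance, ⟨(Shrink.mulEquiv).symm⟩⟩

end Main

end Cfsg.Agent.H65
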