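import Mathlib
import Cfsg.Agent.H6.Co3Abs

/-!
# S2071 piece CO3-OUT1 (helper65, parallel take): a criterion for a trivial outer automorphism group

Port of helper69's `Cfsg.Agent.H69.Mcl.card_out_eq_two'` (H69/MclOut2.lean) without the outer
automorphism `τ`.
-/

set_option autoImplicit false
set_option linter.style.haveILetI false
set_option linter.unusedVariables false

namespace Cfsg.Agent.H65.Co3P

theorem out1 : Cfsg.Agent.H6.Co3.StOut1 := by
  intro J _ _ x y n p k hp hgen hx hp2 hn hk h1 h2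
  classical
  haveI : Fact p.Prime := ⟨hp⟩
  have hx1 : x ≠ 1 := by
    intro h
    rw [h, orderOf_one] at hx
    exact hp.one_lt.ne hx
  -- conjugating by powers of `n`
  have hni : ∀ i : ℕ, n ^ i * x * (n ^ i)⁻¹ = x ^ (k ^ i) := by
    intro i
    induction i with
    | zero => simp
    | succ i ih =>
      have e : n ^ (i + 1) * x * (n ^ (i + 1))⁻¹ = n * (n ^ i * x * (n ^ i)⁻¹) * n⁻¹ := by
        rw [pow_succ']; group
      rw [e, ih, ← conj_pow, hn, ← pow_mul, ← pow_succ']
  -- the index of `⟨x⟩` is prime to `p`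
  have hidx : ¬ p ∣ Nat.card (J ⧸ Subgroup.zpowers x) := by
    intro h2
    apply hp2
    have h3 := Subgroup.card_mul_index (Subgroup.zpowers x)
    rw [Nat.card_zpowers, hx] at h3
    rw [← h3, pow_two]
    exact Nat.mul_dvd_mul_left _ h2
  -- the image of `x` under an automorphism
  have hstep : ∀ α : MulAut J, ∃ d : J, α x = d * x * d⁻¹ ∨ α x = d * x⁻¹ * d⁻¹ := by
    intro α
    have hu : orderOf (α x) = p := by rw [MulEquiv.orderOf_eq, hx]
    have hu1 : α x ≠ 1 := by
      intro h
      rw [h, orderOf_one] at hu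
      exact hp.one_lt.ne hu
    have hZ : IsPGroup p ↥(Subgroup.zpowers (α x)) :=
      IsPGroup.of_card (n := 1) (by rw [Nat.card_zpowers, hu, pow_one])
    obtain ⟨w, hw⟩ := hZ.nonempty_fixed_point_of_prime_not_dvd_card (J ⧸ Subgroup.zpowers x) hidx
    obtain ⟨g, rfl⟩ := QuotientGroup.mk_surjective w
    have h2 : (QuotientGroup.mk (α x * g) : J ⧸ Subgroup.zpowers x) = QuotientGroup.mk g :=
      hw ⟨α x, Subgroup.mem_zpowers _⟩
    have h3 := inv_mem (QuotientGroup.eq.mp h2)
    have e3 : ((α x * g)⁻¹ * g)⁻¹ = g⁻¹ * α x * g := by group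
    rw [e3, ← mem_powers_iff_mem_zpowers] at h3
    obtain ⟨j, hj⟩ := h3
    have hj' : x ^ (j % p) = g⁻¹ * α x * g := by
      rw [← hj, ← hx, pow_mod_orderOf]
    have hm0 : 0 < j % p := by
      rcases Nat.eq_zero_or_pos (j % p) with h0 | h0
      · exfalso
        rw [h0, pow_zero] at hj'
        apply hu1
        have e : α x = g * (g⁻¹ * α x * g) * g⁻¹ := by group
        rw [e, ← hj']; group
      · exact h0
    have hmp : j % p < p := Nat.mod_lt _ hp.pos
    have hαx : α x = g * x ^ (j % p) * g⁻¹ := by rw [hj']; group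
    obtain ⟨i, hi | hi⟩ := hk (j % p) hm0 hmp
    · refine ⟨g * n ^ i, Or.inl ?_⟩
      have e1 : x ^ (j % p) = n ^ i * x * (n ^ i)⁻¹ := by
        rw [hni, ← hi, ← hx, pow_mod_orderOf]
      rw [hαx, e1]; group
    · refine ⟨g * n ^ i, Or.inr ?_⟩
      have e0 : x ^ (k ^ i + j % p) = 1 := by
        have hi' : orderOf x ∣ k ^ i + j % p := by
          rw [hx]; exact Nat.dvd_of_mod_eq_zero hi
        exact orderOf_dvd_iff_pow_eq_one.mp hi'
      have e1 : x ^ (j % p) = n ^ i * x⁻¹ * (n ^ i)⁻¹ := by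
        have e2 : x ^ (j % p) = (x ^ (k ^ i))⁻¹ := by
          rw [pow_add] at e0
          exact eq_inv_of_mul_eq_one_right e0
        rw [e2, ← hni]; group
      rw [hαx, e1]; group
  -- automorphisms fixing `x` are inner
  have hinner : ∀ β : MulAut J, β x = x → ∃ e : J, β = MulAut.conj e := by
    intro β hβ
    obtain ⟨i, hi⟩ := h1 β hβ
    refine ⟨x ^ i, ?_⟩
    have h2 : β.toMonoidHom = (MulAut.conj (x ^ i)).toMonoidHom := by
      apply MonoidHom.eq_of_eqOn_dense hgen
      intro z hz
      rcases hz with rfl | rfl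
      · show β z = MulAut.conj (z ^ i) z
        rw [hβ, MulAut.conj_apply]
        have e : z ^ i * z * (z ^ i)⁻¹ = z := by
          rw [← pow_succ, pow_succ', mul_assoc, mul_inv_cancel, mul_one]
        rw [e]
      · show β z = MulAut.conj (x ^ i) z
        rw [hi, MulAut.conj_apply]
    ext z
    exact congrArg (fun f : J →* J => f z) h2
  -- every automorphism is inner
  have hall : ∀ α : MulAut J, α ∈ (MulAut.conj : J →* MulAut J).range := by
    intro α
    obtain ⟨d, hd | hd⟩ := hstep α
    · have hβ : ((MulAut.conj d)⁻¹ * α) x = x := by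
        rw [MulAut.mul_apply, hd, MulAut.conj_inv_apply]; group
      obtain ⟨e, he⟩ := hinner _ hβ
      refine ⟨d * e, ?_⟩
      rw [map_mul, ← he]; group
    · exfalso
      have hβ : ((MulAut.conj d)⁻¹ * α) x = x⁻¹ := by
        rw [MulAut.mul_apply, hd, MulAut.conj_inv_apply]; group
      exact h2 _ hβ
  show (MulAut.conj : J →* MulAut J).range.index = 1
  rw [Subgroup.index_eq_one, eq_top_iff]
  intro α _
  exact hall α

example : Cfsg.Agent.H6.Co3.StOut1 := out1

end Cfsg.Agent.H65.Co3P
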