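import Mathlib
import Cfsg.Agent.H6.DcDefs

/-!
# DC-GEN (piece for helper6, S2132): the 3-cycle `a1` and the 7-cycle `a2` generate the
alternating group of degree 8
-/

set_option autoImplicit false
set_option maxRecDepth 100000

namespace Cfsg.Agent.H65.Dc

open Equiv Cfsg.Agent.H6.Dc

/-- the four letters `a1, a1⁻¹, a2, a2⁻¹` -/
def lt : Fin 4 → Perm (Fin 8)
  | 0 => a1
  | 1 => a1⁻¹
  | 2 => a2
  | 3 => a2⁻¹

/-- evaluation of a word -/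
def ev : List (Fin 4) → Perm (Fin 8)
  | [] => 1
  | l :: w => lt l * ev w

theorem ev_mem (H : Subgroup (Perm (Fin 8))) (h1 : a1 ∈ H) (h2 : a2 ∈ H) :
    ∀ w : List (Fin 4), ev w ∈ H := by
  intro w
  induction w with
  | nil => exact H.one_mem
  | cons l w ih =>
    have hl : lt l ∈ H := by
      fin_cases l
      · exact h1
      · exact H.inv_mem h1
      · exact h2
      · exact H.inv_mem h2
    exact H.mul_mem hl ih

/-- words for `swap x y * swap 0 1` (entry `8 x + y`) -/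
def tbl : List (List (Fin 4)) :=
  [[],
  [],
  [0],
  [2, 0, 3, 0],
  [2, 2, 0, 3, 0, 3, 0],
  [3, 3, 3, 1, 2, 1, 2, 1, 2],
  [3, 3, 1, 2, 1, 2],
  [3, 1, 2],
  [],
  [],
  [1],
  [1, 2, 1, 3],
  [1, 2, 1, 2, 1, 3, 3],
  [3, 0, 3, 0, 3, 0, 2, 2, 2],
  [3, 0, 3, 0, 2, 2],
  [3, 0, 2],
  [0],
  [1],
  [],
  [2, 1, 3, 0],
  [2, 1, 2, 1, 3, 3, 0],
  [2, 1, 2, 1, 2, 1, 3, 3, 3, 0],
  [0, 3, 0, 3, 0, 2, 2, 0],
  [0, 3, 0, 2, 0],
  [2, 0, 3, 0],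
  [1, 2, 1, 3],
  [2, 1, 3, 0],
  [],
  [2, 2, 1, 3, 0, 3, 0],
  [2, 2, 1, 2, 1, 3, 3, 0, 3, 0],
  [2, 2, 0, 2, 0, 2, 2, 0, 2, 2, 0, 3],
  [3, 0, 2, 2, 0, 3, 0, 3, 0, 2],
  [2, 2, 0, 3, 0, 3, 0],
  [1, 2, 1, 2, 1, 3, 3],
  [2, 1, 2, 1, 3, 3, 0],
  [2, 2, 1, 3, 0, 3, 0],
  [],
  [2, 2, 2, 1, 3, 0, 3, 0, 3, 0],
  [3, 3, 3, 0, 3, 0, 2, 2, 1, 2, 1, 2],
  [3, 3, 0, 3, 0, 3, 0, 2, 2, 2, 1, 2],
  [3, 3, 3, 1, 2, 1, 2, 1, 2],
  [3, 0, 3, 0, 3, 0, 2, 2, 2],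
  [2, 1, 2, 1, 2, 1, 3, 3, 3, 0],
  [2, 2, 1, 2, 1, 3, 3, 0, 3, 0],
  [2, 2, 2, 1, 3, 0, 3, 0, 3, 0],
  [],
  [3, 3, 3, 0, 2, 1, 2, 1, 2],
  [3, 3, 0, 3, 0, 2, 2, 1, 2],
  [3, 3, 1, 2, 1, 2],
  [3, 0, 3, 0, 2, 2],
  [0, 3, 0, 3, 0, 2, 2, 0],
  [2, 2, 0, 2, 0, 2, 2, 0, 2, 2, 0, 3],
  [3, 3, 3, 0, 3, 0, 2, 2, 1, 2, 1, 2],
  [3, 3, 3, 0, 2, 1, 2, 1, 2],
  [],
  [3, 3, 0, 2, 1, 2],
  [3, 1, 2],
  [3, 0, 2],
  [0, 3, 0, 2, 0],
  [3, 0, 2, 2, 0, 3, 0, 3, 0, 2],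
  [3, 3, 0, 3, 0, 3, 0, 2, 2, 2, 1, 2],
  [3, 3, 0, 3, 0, 2, 2, 1, 2],
  [3, 3, 0, 2, 1, 2],
  []]

theorem tbl_spec : ∀ x y i : Fin 8, x ≠ y →
    ev (tbl.getD (8 * x.val + y.val) []) i = (swap x y * swap (0 : Fin 8) 1) i := by
  decide

theorem gen : StGen := by
  intro H h1 h2
  have hsw : ∀ x y : Fin 8, x ≠ y → swap x y * swap (0 : Fin 8) 1 ∈ H := by
    intro x y hxy
    have h : ev (tbl.getD (8 * x.val + y.val) []) = swap x y * swap (0 : Fin 8) 1 :=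
      Equiv.ext (fun i => tbl_spec x y i hxy)
    rw [← h]
    exact ev_mem H h1 h2 _
  have hsw' : ∀ x y : Fin 8, x ≠ y → swap (0 : Fin 8) 1 * swap x y ∈ H := by
    intro x y hxy
    have h := H.inv_mem (hsw x y hxy)
    rwa [mul_inv_rev, swap_inv, swap_inv] at h
  have key : ∀ f : Perm (Fin 8), (Perm.sign f = 1 → f ∈ H) ∧
      (Perm.sign f = -1 → swap (0 : Fin 8) 1 * f ∈ H) := by
    intro f
    refine Equiv.Perm.swap_induction_on f ?_ ?_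
    · refine ⟨fun _ => H.one_mem, fun h => ?_⟩
      rw [Perm.sign_one] at h
      exact absurd h (by decide)
    · intro f x y hxy ih
      constructor
      · intro hs
        rw [Perm.sign_mul, Perm.sign_swap hxy] at hs
        have hf : Perm.sign f = -1 := by
          rcases Int.units_eq_one_or (Perm.sign f) with h | h
          · rw [h] at hs
            exact absurd hs (by decide)
          · exact h
        have h := H.mul_mem (hsw x y hxy) (ih.2 hf)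
        rwa [mul_assoc, ← mul_assoc (swap (0 : Fin 8) 1), swap_mul_self, one_mul] at h
      · intro hs
        rw [Perm.sign_mul, Perm.sign_swap hxy] at hs
        have hf : Perm.sign f = 1 := by
          rcases Int.units_eq_one_or (Perm.sign f) with h | h
          · exact h
          · rw [h] at hs
            exact absurd hs (by decide)
        have h := H.mul_mem (hsw' x y hxy) (ih.1 hf)
        rwa [mul_assoc] at h
  intro f hf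
  exact (key f).1 (Perm.mem_alternatingGroup.1 hf)

example : StGen := gen

end Cfsg.Agent.H65.Dc
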