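import Mathlib
import Cfsg.Agent.H86.FsDefs

set_option autoImplicit false
set_option linter.style.haveILetI false
set_option linter.unusedVariables false

/-!
# FS-S4 (helper86's team project S5515): subgroups of order 6 of `S₄ × 1` are conjugate

A subgroup `K` of order 6 of `Perm (Fin 4)` contains an element `σ` of order 3, which has a unique
fixed point `x`; `⟨σ⟩` has index 2 in `K`, so is normal, so every `τ ∈ K` fixes `x`; hence `K` is
the stabilizer of `x` (order 6).  Point stabilizers are conjugate.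
-/

namespace Cfsg.Agent.H65.Fs

open Cfsg.Agent.H86.Fs

theorem fix_exists : ∀ s : Equiv.Perm (Fin 4), s ^ 3 = 1 → s ≠ 1 → ∃ x, s x = x := by decide

theorem fix_unique : ∀ s : Equiv.Perm (Fin 4), s ^ 3 = 1 → s ≠ 1 →
    ∀ y z, s y = y → s z = z → y = z := by decide

theorem stab_card (x : Fin 4) :
    Nat.card ↥(MulAction.stabilizer (Equiv.Perm (Fin 4)) x) = 6 := by
  have h1 : (MulAction.stabilizer (Equiv.Perm (Fin 4)) x).index = Nat.card (Fin 4) :=
    MulAction.index_stabilizer_of_transitive (Equiv.Perm (Fin 4)) x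
  have h2 := Subgroup.index_mul_card (MulAction.stabilizer (Equiv.Perm (Fin 4)) x)
  rw [h1] at h2
  have h3 : Nat.card (Fin 4) = 4 := by simp
  have h4 : Nat.card (Equiv.Perm (Fin 4)) = 24 := by
    rw [Nat.card_eq_fintype_card, Fintype.card_perm, Fintype.card_fin]
    rfl
  rw [h3, h4] at h2
  omega

/-- a subgroup of order 6 of `Perm (Fin 4)` is a point stabilizer. -/
theorem eq_stab (K : Subgroup (Equiv.Perm (Fin 4))) (hK : Nat.card ↥K = 6) :
    ∃ x : Fin 4, K = MulAction.stabilizer (Equiv.Perm (Fin 4)) x := by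
  haveI : Fact (Nat.Prime 3) := ⟨Nat.prime_three⟩
  obtain ⟨σ', hσ'⟩ := exists_prime_orderOf_dvd_card' (G := ↥K) 3 (by rw [hK]; norm_num)
  obtain ⟨σ, hσdef⟩ : ∃ σ : Equiv.Perm (Fin 4), σ = (σ' : Equiv.Perm (Fin 4)) := ⟨_, rfl⟩
  have hσK : σ ∈ K := by rw [hσdef]; exact σ'.2
  have hσ3 : orderOf σ = 3 := by rw [hσdef, Subgroup.orderOf_coe]; exact hσ'
  have hσp : σ ^ 3 = 1 := by rw [← hσ3]; exact pow_orderOf_eq_one σ
  have hσ1 : σ ≠ 1 := by
    intro h
    rw [h, orderOf_one] at hσ3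
    omega
  obtain ⟨x, hx⟩ := fix_exists σ hσp hσ1
  refine ⟨x, ?_⟩
  -- `⟨σ⟩` is normal in `K`
  have hZK : Subgroup.zpowers σ ≤ K := by
    rw [Subgroup.zpowers_le]; exact hσK
  have hZcard : Nat.card ↥(Subgroup.zpowers σ) = 3 := by
    rw [Nat.card_zpowers]; exact hσ3
  have hidx : ((Subgroup.zpowers σ).subgroupOf K).index = 2 := by
    have h1 := Subgroup.index_mul_card ((Subgroup.zpowers σ).subgroupOf K)
    have h2 : Nat.card ↥((Subgroup.zpowers σ).subgroupOf K) = 3 := by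
      rw [← hZcard]
      exact Nat.card_congr (Subgroup.subgroupOfEquivOfLe hZK).toEquiv
    rw [h2, hK] at h1
    omega
  have hnorm : ((Subgroup.zpowers σ).subgroupOf K).Normal := Subgroup.normal_of_index_eq_two hidx
  have hfix : ∀ τ ∈ K, τ x = x := by
    intro τ hτ
    have h1 : (⟨τ, hτ⟩ : ↥K) * ⟨σ, hσK⟩ * (⟨τ, hτ⟩ : ↥K)⁻¹ ∈ (Subgroup.zpowers σ).subgroupOf K :=
      hnorm.conj_mem ⟨σ, hσK⟩ (by rw [Subgroup.mem_subgroupOf]; exact Subgroup.mem_zpowers σ) _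
    rw [Subgroup.mem_subgroupOf] at h1
    have h2 : τ * σ * τ⁻¹ ∈ Subgroup.zpowers σ := h1
    obtain ⟨k, hk⟩ := Subgroup.mem_zpowers_iff.mp h2
    have hρx : (τ * σ * τ⁻¹) x = x := by
      rw [← hk]
      exact Equiv.Perm.zpow_apply_eq_self_of_apply_eq_self hx k
    have hρτ : (τ * σ * τ⁻¹) (τ x) = τ x := by
      simp [Equiv.Perm.mul_apply, hx]
    have hρ3 : (τ * σ * τ⁻¹) ^ 3 = 1 := by
      rw [conj_pow, hσp, mul_one, mul_inv_cancel]
    have hρ1 : τ * σ * τ⁻¹ ≠ 1 := by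
      intro h
      apply hσ1
      have h3 : σ = τ⁻¹ * (τ * σ * τ⁻¹) * τ := by group
      rw [h3, h, mul_one, inv_mul_cancel]
    exact fix_unique _ hρ3 hρ1 _ _ hρτ hρx
  have hle : K ≤ MulAction.stabilizer (Equiv.Perm (Fin 4)) x := by
    intro τ hτ
    rw [MulAction.mem_stabilizer_iff]
    exact hfix τ hτ
  exact Subgroup.eq_of_le_of_card_ge hle (by rw [stab_card, hK])

/-- two subgroups of order 6 of `Perm (Fin 4)` are conjugate. -/
theorem conj_perm (K₁ K₂ : Subgroup (Equiv.Perm (Fin 4))) (h1 : Nat.card ↥K₁ = 6)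
    (h2 : Nat.card ↥K₂ = 6) :
    ∃ g : Equiv.Perm (Fin 4), K₂ = K₁.map (MulAut.conj g).toMonoidHom := by
  obtain ⟨x₁, hx₁⟩ := eq_stab K₁ h1
  obtain ⟨x₂, hx₂⟩ := eq_stab K₂ h2
  refine ⟨Equiv.swap x₁ x₂, ?_⟩
  rw [hx₁, hx₂]
  ext s
  constructor
  · intro hs
    rw [MulAction.mem_stabilizer_iff] at hs
    have hs' : s x₂ = x₂ := hs
    refine ⟨(Equiv.swap x₁ x₂)⁻¹ * s * Equiv.swap x₁ x₂, ?_, ?_⟩
    · apply MulAction.mem_stabilizer_iff.mpr
      show ((Equiv.swap x₁ x₂)⁻¹ * s * Equiv.swap x₁ x₂) x₁ = x₁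
      simp [Equiv.Perm.mul_apply, hs']
    · show Equiv.swap x₁ x₂ * ((Equiv.swap x₁ x₂)⁻¹ * s * Equiv.swap x₁ x₂) *
        (Equiv.swap x₁ x₂)⁻¹ = s
      group
  · rintro ⟨r, hr, rfl⟩
    have hr' : r x₁ = x₁ := MulAction.mem_stabilizer_iff.mp hr
    apply MulAction.mem_stabilizer_iff.mpr
    show (Equiv.swap x₁ x₂ * r * (Equiv.swap x₁ x₂)⁻¹) x₂ = x₂
    simp [Equiv.Perm.mul_apply, hr']

theorem sub_one : ∀ a b : Multiplicative (ZMod 1), a = b := by decide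

theorem s4 : StS4 := by
  intro K₁ K₂ h1 h2
  obtain ⟨π, hπ⟩ : ∃ π : Equiv.Perm (Fin 4) × Multiplicative (ZMod 1) →* Equiv.Perm (Fin 4),
      π = MonoidHom.fst _ _ := ⟨_, rfl⟩
  have hπapp : ∀ h, π h = h.1 := by intro h; rw [hπ]; rfl
  have hinj : Function.Injective π := by
    intro a b hab
    rw [hπapp, hπapp] at hab
    exact Prod.ext hab (sub_one _ _)
  have hc1 : Nat.card ↥(K₁.map π) = 6 := by
    rw [Subgroup.card_map_of_injective hinj]; exact h1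
  have hc2 : Nat.card ↥(K₂.map π) = 6 := by
    rw [Subgroup.card_map_of_injective hinj]; exact h2
  obtain ⟨g, hg⟩ := conj_perm (K₁.map π) (K₂.map π) hc1 hc2
  refine ⟨(g, 1), ?_⟩
  apply Subgroup.map_injective hinj
  rw [hg, Subgroup.map_map, Subgroup.map_map]
  congr 1
  ext h : 1
  show g * π h * g⁻¹ = π ((g, 1) * h * (g, 1)⁻¹)
  rw [hπapp, hπapp]
  rfl

end Cfsg.Agent.H65.Fs

example : Cfsg.Agent.H86.Fs.StS4 := Cfsg.Agent.H65.Fs.s4
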