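import Cfsg.Agent.H43.MCDefs

/-!
# S3905-F5 (piece for helper43): `C_N(x)` is normal in `N` or self-normalizing in `N`
-/

set_option autoImplicit false
set_option linter.style.haveILetI false
set_option linter.unusedVariables false

namespace Cfsg.Agent.H65.MC

open Cfsg.Agent.H43.MC

universe u

/-- In a finite group, `n C n⁻¹ ⊆ C` implies `n⁻¹ C n ⊆ C`. -/
theorem conj_inv_mem {G : Type u} [Group G] [Finite G] (C : Subgroup G) (n : G)
    (hn : ∀ c ∈ C, n * c * n⁻¹ ∈ C) : ∀ c ∈ C, n⁻¹ * c * n⁻¹⁻¹ ∈ C := by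
  intro c hc
  let f : ↥C → ↥C := fun c => ⟨n * c * n⁻¹, hn c c.2⟩
  have hinj : Function.Injective f := by
    intro a b hab
    have h1 : n * (a : G) * n⁻¹ = n * (b : G) * n⁻¹ := congrArg Subtype.val hab
    apply Subtype.ext
    simpa using h1
  obtain ⟨c', hc'⟩ := (Finite.injective_iff_surjective.1 hinj) ⟨c, hc⟩
  have h2 : n * (c' : G) * n⁻¹ = c := congrArg Subtype.val hc'
  have h3 : n⁻¹ * c * n⁻¹⁻¹ = (c' : G) := by rw [← h2]; group
  rw [h3]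
  exact c'.2

theorem f5 : StF5.{u} := by
  intro G _ _ N hN h x hxN hxZ
  let C : Subgroup G := N ⊓ Subgroup.centralizer ({x} : Set G)
  have hC : ∀ c : G, c ∈ C ↔ c ∈ N ∧ Commute c x := by
    intro c
    constructor
    · intro hc
      obtain ⟨h1, h2⟩ := Subgroup.mem_inf.1 hc
      exact ⟨h1, mem_cent_singleton.1 h2⟩
    · rintro ⟨h1, h2⟩
      exact Subgroup.mem_inf.2 ⟨h1, mem_cent_singleton.2 h2⟩
  let L : Subgroup G :=
    { carrier := {n | n ∈ N ∧ ∀ c ∈ C, n * c * n⁻¹ ∈ C}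
      one_mem' := ⟨N.one_mem, fun c hc => by simpa using hc⟩
      mul_mem' := by
        rintro n1 n2 ⟨h1, h1'⟩ ⟨h2, h2'⟩
        refine ⟨N.mul_mem h1 h2, fun c hc => ?_⟩
        have e : n1 * n2 * c * (n1 * n2)⁻¹ = n1 * (n2 * c * n2⁻¹) * n1⁻¹ := by group
        rw [e]
        exact h1' _ (h2' c hc)
      inv_mem' := by
        rintro n ⟨h1, h1'⟩
        exact ⟨N.inv_mem h1, conj_inv_mem C n h1'⟩ }
  have hLmem : ∀ n : G, n ∈ L ↔ n ∈ N ∧ ∀ c ∈ C, n * c * n⁻¹ ∈ C := fun n => Iff.rfl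
  have hLN : L ≤ N := fun n hn => hn.1
  have hinv : ∀ m ∈ Subgroup.centralizer ({x} : Set G), ∀ l ∈ L, m * l * m⁻¹ ∈ L := by
    intro m hm l hl
    have hmC : ∀ c ∈ C, ∀ m ∈ Subgroup.centralizer ({x} : Set G), m * c * m⁻¹ ∈ C := by
      intro c hc m hm
      obtain ⟨h1, h2⟩ := Subgroup.mem_inf.1 hc
      exact Subgroup.mem_inf.2 ⟨hN.conj_mem c h1 m,
        Subgroup.mul_mem _ (Subgroup.mul_mem _ hm h2) (Subgroup.inv_mem _ hm)⟩
    refine ⟨hN.conj_mem l hl.1 m, fun c hc => ?_⟩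
    have e : m * l * m⁻¹ * c * (m * l * m⁻¹)⁻¹
        = m * (l * (m⁻¹ * c * m⁻¹⁻¹) * l⁻¹) * m⁻¹ := by group
    rw [e]
    exact hmC _ (hl.2 _ (hmC c hc m⁻¹ (Subgroup.inv_mem _ hm))) m hm
  have hkey : ∀ n ∈ N, (∀ c ∈ N, Commute c x → Commute (n * c * n⁻¹) x) ↔ n ∈ L := by
    intro n hn
    constructor
    · intro hnc
      refine ⟨hn, fun c hc => ?_⟩
      obtain ⟨h1, h2⟩ := (hC c).1 hc
      exact (hC _).2 ⟨N.mul_mem (N.mul_mem hn h1) (N.inv_mem hn), hnc c h1 h2⟩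
    · intro hnL c hc hcx
      exact ((hC _).1 (hnL.2 c ((hC c).2 ⟨hc, hcx⟩))).2
  rcases f6 h hxN hxZ L hLN hinv with hle | hprod
  · right
    intro n hn hnc
    exact mem_cent_singleton.1 (hle ((hkey n hn).1 hnc))
  · left
    intro n hn
    rw [hkey n hn]
    obtain ⟨l, hl, c, hc, hcx, rfl⟩ := hprod n hn
    have hcC : c ∈ C := Subgroup.mem_inf.2 ⟨hc, hcx⟩
    have hcL : c ∈ L :=
      ⟨hc, fun c' hc' => C.mul_mem (C.mul_mem hcC hc') (C.inv_mem hcC)⟩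
    exact L.mul_mem hl hcL

example : StF5.{u} := f5

end Cfsg.Agent.H65.MC
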