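import Cfsg.Agent.H43.MCDefs

/-!
# S3905-MAINB (piece for helper43): `N = L · C_N(y)` and `L ∩ C_G(y) ≤ Z`
-/

set_option autoImplicit false
set_option linter.style.haveILetI false
set_option linter.unusedVariables false

namespace Cfsg.Agent.H65.MC

open Cfsg.Agent.H43.MC

universe u

theorem mainB : StMainB.{u} := by
  intro G _ _ N _ h p L hL y hyN hyL
  obtain ⟨l0, hl0L, hl0y⟩ := hyL
  haveI := hL.hnorm
  have hyZ : y ∉ Subgroup.centralizer (N : Set G) := by
    intro hy
    rw [mem_cent_set] at hy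
    exact hl0y (hy l0 (hL.hLN hl0L))
  have hnotle : ¬ L ≤ Subgroup.centralizer ({y} : Set G) := by
    intro hle
    have := hle hl0L
    rw [mem_cent_singleton] at this
    exact hl0y this
  have h1 : ∀ n ∈ N, ∃ l ∈ L, ∃ c ∈ N, Commute c y ∧ n = l * c := by
    rcases f6 h hyN hyZ L hL.hLN (fun m _ l hl => hL.hnorm.conj_mem l hl m) with hle | hprod
    · exact absurd hle hnotle
    · intro n hn
      obtain ⟨l, hl, c, hc, hcy, rfl⟩ := hprod n hn
      rw [mem_cent_singleton] at hcy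
      exact ⟨l, hl, c, hc, hcy, rfl⟩
  refine ⟨h1, ?_⟩
  let T : Subgroup G := L ⊓ Subgroup.centralizer ({y} : Set G)
  have hZT : ZN N ≤ T := by
    intro z hz
    have hz2 : z ∈ Subgroup.centralizer (N : Set G) := (mem_ZN.1 hz).2
    rw [mem_cent_set] at hz2
    have hzy : z ∈ Subgroup.centralizer ({y} : Set G) := by
      rw [mem_cent_singleton]
      exact (hz2 y hyN).symm
    exact Subgroup.mem_inf.2 ⟨hL.hZL hz, hzy⟩
  have hTn : T.Normal := by
    constructor
    intro t ht g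
    obtain ⟨htL, hty⟩ := Subgroup.mem_inf.1 ht
    obtain ⟨n, hn, m, hm, rfl⟩ := gnm h hyN hyZ g
    obtain ⟨l, hl, c, hc, hcy, rfl⟩ := h1 n hn
    have hcm : c * m ∈ Subgroup.centralizer ({y} : Set G) :=
      Subgroup.mul_mem _ (mem_cent_singleton.2 hcy) hm
    have ht'L : (c * m) * t * (c * m)⁻¹ ∈ L := hL.hnorm.conj_mem t htL _
    have ht' : (c * m) * t * (c * m)⁻¹ ∈ T :=
      Subgroup.mem_inf.2 ⟨ht'L, Subgroup.mul_mem _ (Subgroup.mul_mem _ hcm hty)
        (Subgroup.inv_mem _ hcm)⟩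
    have e : l * c * m * t * (l * c * m)⁻¹
        = (l * ((c * m) * t * (c * m)⁻¹) * l⁻¹ * ((c * m) * t * (c * m)⁻¹)⁻¹)
          * ((c * m) * t * (c * m)⁻¹) := by group
    rw [e]
    exact T.mul_mem (hZT (hL.hcomm l hl _ ht'L)) ht'
  have hTL : T ≤ L := inf_le_left
  rcases hL.hmin T hTn hZT hTL with hT | hT
  · intro l hl hly
    exact hT (Subgroup.mem_inf.2 ⟨hl, mem_cent_singleton.2 hly⟩)
  · exfalso
    apply hnotle
    rw [← hT]
    exact inf_le_right

example : StMainB.{u} := mainB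

end Cfsg.Agent.H65.MC
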