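import Mathlib
import Cfsg.Agent.H65.SL2Lemmas
import Cfsg.Agent.H65.NatSL2

/-!
# Elementary matrices in `SL₂(F)` and generation (helper65)

`uu c`, `ll c` (upper/lower unitriangular), `wc c` (the monomial matrix `!![0, c; -c⁻¹, 0]`),
`kk b` (diagonal `!![b⁻¹, 0; 0, b]`), with the identities used for natural-module recognition.
-/

set_option autoImplicit false

namespace Cfsg.Agent.H65.SL2Gen

open Matrix

variable {F : Type*} [Field F]

/-- Upper unitriangular `!![1, c; 0, 1]`. -/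
def uu (c : F) : Matrix.SpecialLinearGroup (Fin 2) F :=
  ⟨!![1, c; 0, 1], by rw [Matrix.det_fin_two_of]; ring⟩

/-- Lower unitriangular `!![1, 0; c, 1]`. -/
def ll (c : F) : Matrix.SpecialLinearGroup (Fin 2) F :=
  ⟨!![1, 0; c, 1], by rw [Matrix.det_fin_two_of]; ring⟩

/-- Monomial `!![0, c; -c⁻¹, 0]`. -/
def wc (c : F) (hc : c ≠ 0) : Matrix.SpecialLinearGroup (Fin 2) F :=
  ⟨!![0, c; -c⁻¹, 0], by rw [Matrix.det_fin_two_of]; field_simp; ring⟩

/-- Diagonal `!![b⁻¹, 0; 0, b]`. -/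
def kk (b : F) (hb : b ≠ 0) : Matrix.SpecialLinearGroup (Fin 2) F :=
  ⟨!![b⁻¹, 0; 0, b], by rw [Matrix.det_fin_two_of]; field_simp; ring⟩

@[simp] theorem uu_00 (c : F) : (uu c).1 0 0 = 1 := rfl
@[simp] theorem uu_01 (c : F) : (uu c).1 0 1 = c := rfl
@[simp] theorem uu_10 (c : F) : (uu c).1 1 0 = 0 := rfl
@[simp] theorem uu_11 (c : F) : (uu c).1 1 1 = 1 := rfl
@[simp] theorem ll_00 (c : F) : (ll c).1 0 0 = 1 := rfl
@[simp] theorem ll_01 (c : F) : (ll c).1 0 1 = 0 := rfl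
@[simp] theorem ll_10 (c : F) : (ll c).1 1 0 = c := rfl
@[simp] theorem ll_11 (c : F) : (ll c).1 1 1 = 1 := rfl
@[simp] theorem wc_00 (c : F) (hc : c ≠ 0) : (wc c hc).1 0 0 = 0 := rfl
@[simp] theorem wc_01 (c : F) (hc : c ≠ 0) : (wc c hc).1 0 1 = c := rfl
@[simp] theorem wc_10 (c : F) (hc : c ≠ 0) : (wc c hc).1 1 0 = -c⁻¹ := rfl
@[simp] theorem wc_11 (c : F) (hc : c ≠ 0) : (wc c hc).1 1 1 = 0 := rfl
@[simp] theorem kk_00 (c : F) (hc : c ≠ 0) : (kk c hc).1 0 0 = c⁻¹ := rfl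
@[simp] theorem kk_01 (c : F) (hc : c ≠ 0) : (kk c hc).1 0 1 = 0 := rfl
@[simp] theorem kk_10 (c : F) (hc : c ≠ 0) : (kk c hc).1 1 0 = 0 := rfl
@[simp] theorem kk_11 (c : F) (hc : c ≠ 0) : (kk c hc).1 1 1 = c := rfl

theorem uu_mul (a b : F) : uu a * uu b = uu (a + b) := by
  apply SL2.ext4 <;> simp [SL2.mul00, SL2.mul01, SL2.mul10, SL2.mul11] <;> ring

theorem uu_zero : uu (0 : F) = 1 := by
  apply SL2.ext4 <;> simp

theorem uu_mem_U (c : F) : uu c ∈ NatSL2.U F := ⟨rfl, rfl⟩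

theorem eq_uu_of_mem_U {x : Matrix.SpecialLinearGroup (Fin 2) F} (hx : x ∈ NatSL2.U F) :
    x = uu (x.1 0 1) := by
  apply SL2.ext4
  · rw [hx.2]; rfl
  · rfl
  · rw [hx.1]; rfl
  · rw [NatSL2.U_11 hx]; rfl

theorem wc_mul_wc_neg (c : F) (hc : c ≠ 0) : wc c hc * wc (-c) (neg_ne_zero.mpr hc) = 1 := by
  apply SL2.ext4 <;> simp [SL2.mul00, SL2.mul01, SL2.mul10, SL2.mul11] <;> field_simp

theorem wc_neg_mul_wc (c : F) (hc : c ≠ 0) : wc (-c) (neg_ne_zero.mpr hc) * wc c hc = 1 := by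
  apply SL2.ext4 <;> simp [SL2.mul00, SL2.mul01, SL2.mul10, SL2.mul11] <;> field_simp

theorem wc_mul_self (c : F) (hc : c ≠ 0) : wc c hc * wc c hc = -1 := by
  apply SL2.ext4 <;> simp [SL2.mul00, SL2.mul01, SL2.mul10, SL2.mul11] <;> field_simp

theorem neg_one_mul_comm (g : Matrix.SpecialLinearGroup (Fin 2) F) :
    (-1 : Matrix.SpecialLinearGroup (Fin 2) F) * g = g * (-1) := by
  apply SL2.ext4 <;> simp [SL2.mul00, SL2.mul01, SL2.mul10, SL2.mul11]

theorem neg_one_mul_neg_one :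
    (-1 : Matrix.SpecialLinearGroup (Fin 2) F) * (-1) = 1 := by
  apply SL2.ext4 <;> simp [SL2.mul00, SL2.mul01, SL2.mul10, SL2.mul11]

/-- The braid-type relation `t u t = u⁻¹ t⁻¹ u⁻¹` for `u = uu c`, `t = wc c`. -/
theorem wc_uu_wc (c : F) (hc : c ≠ 0) :
    wc c hc * uu c * wc c hc = uu (-c) * wc (-c) (neg_ne_zero.mpr hc) * uu (-c) := by
  apply SL2.ext4 <;> simp [SL2.mul00, SL2.mul01, SL2.mul10, SL2.mul11] <;> field_simp <;> ring

theorem uu_mul_wc (b c : F) (hc : c ≠ 0) : uu b * wc c hc = wc c hc * ll (-b / c ^ 2) := by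
  apply SL2.ext4 <;> simp [SL2.mul00, SL2.mul01, SL2.mul10, SL2.mul11] <;> field_simp

theorem ll_mul_wc (b c : F) (hc : c ≠ 0) : ll b * wc c hc = wc c hc * uu (-b * c ^ 2) := by
  apply SL2.ext4 <;> simp [SL2.mul00, SL2.mul01, SL2.mul10, SL2.mul11] <;> field_simp

theorem wc_neg_one_mul_wc (b : F) (hb : b ≠ 0) :
    wc (-1 : F) (neg_ne_zero.mpr one_ne_zero) * wc b hb = kk b hb := by
  apply SL2.ext4 <;> simp [SL2.mul00, SL2.mul01, SL2.mul10, SL2.mul11]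

theorem uu_mul_kk (c b : F) (hb : b ≠ 0) : uu c * kk b hb = kk b hb * uu (c * b ^ 2) := by
  apply SL2.ext4 <;> simp [SL2.mul00, SL2.mul01, SL2.mul10, SL2.mul11] <;> field_simp

theorem kk_mul_wc (b c : F) (hb : b ≠ 0) (hc : c ≠ 0) :
    kk b hb * wc (c * b ^ 2) (mul_ne_zero hc (pow_ne_zero 2 hb)) = wc (c * b) (mul_ne_zero hc hb) := by
  apply SL2.ext4 <;> simp [SL2.mul00, SL2.mul01, SL2.mul10, SL2.mul11] <;> field_simp

/-- `SL₂(F)` is generated by the upper and lower unitriangular matrices. -/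
theorem mem_of_uu_ll (P : Subgroup (Matrix.SpecialLinearGroup (Fin 2) F))
    (hu : ∀ c : F, uu c ∈ P) (hl : ∀ c : F, ll c ∈ P) (g : Matrix.SpecialLinearGroup (Fin 2) F) :
    g ∈ P := by
  have key : ∀ g : Matrix.SpecialLinearGroup (Fin 2) F, g.1 1 0 ≠ 0 → g ∈ P := by
    intro g hc
    have hd := SL2.det_eq g
    have : g = uu ((g.1 0 0 - 1) / g.1 1 0) * ll (g.1 1 0) * uu ((g.1 1 1 - 1) / g.1 1 0) := by
      apply SL2.ext4
      · simp [SL2.mul00, SL2.mul01, SL2.mul10, SL2.mul11]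
        field_simp
        ring
      · simp [SL2.mul00, SL2.mul01, SL2.mul10, SL2.mul11]
        field_simp
        linear_combination (-1 : F) * hd
      · simp [SL2.mul00, SL2.mul01, SL2.mul10, SL2.mul11]
      · simp [SL2.mul00, SL2.mul01, SL2.mul10, SL2.mul11]
        field_simp
        ring
    rw [this]
    exact P.mul_mem (P.mul_mem (hu _) (hl _)) (hu _)
  by_cases hc : g.1 1 0 = 0
  · have hd := SL2.det_eq g
    rw [hc] at hd
    have ha : g.1 0 0 ≠ 0 := by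
      intro h0
      rw [h0] at hd
      simp at hd
    have h1 : ll 1 * g ∈ P := by
      apply key
      rw [SL2.mul10]
      simp [hc, ha]
    have h2 : g = (ll 1)⁻¹ * (ll 1 * g) := by group
    rw [h2]
    exact P.mul_mem (P.inv_mem (hl 1)) h1
  · exact key g hc

end Cfsg.Agent.H65.SL2Gen
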