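import Mathlib
import Cfsg.Agent.H65.SL2Gen

/-!
# Recognition of the natural `SL₂(F)`-module (helper65)

`natural_module`: a finite elementary abelian `p`-group `M` with an irreducible nontrivial action of
`SL₂(F)` (`|F| = pⁿ`) on which the unitriangular group acts quadratically, or with
`|M| ≤ |C_M(U)|²`, is equivariantly isomorphic to the natural module `F²`.
-/

set_option autoImplicit false

namespace Cfsg.Agent.H65.NatRec

open Matrix Cfsg.Agent.H65.SL2Gen

/-- A `p`-group acting on a finite elementary abelian `p`-group `M`, with fixed points `M₀ ≠ M`: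
some vector outside `M₀` is fixed modulo `M₀`. -/
theorem exists_fixed_mod {A : Type*} [Group A] {M : Type*} [AddCommGroup M] [Finite M] (p : ℕ)
    [Fact p.Prime] (hA : IsPGroup p A) (act : A → M →+ M) (act_one : ∀ m, act 1 m = m)
    (act_mul : ∀ a b m, act (a * b) m = act a (act b m)) (hM : ∀ m : M, p • m = 0)
    (M₀ : AddSubgroup M) (hM₀ : ∀ m, m ∈ M₀ → ∀ a, act a m = m) (hne : M₀ ≠ ⊤) :
    ∃ v, v ∉ M₀ ∧ ∀ a, act a v - v ∈ M₀ := by
  classical
  have hp : p.Prime := Fact.out
  have hcomap : ∀ a : A, M₀ ≤ M₀.comap (act a) := by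
    intro a m hm
    rw [AddSubgroup.mem_comap]
    show act a m ∈ M₀
    rw [hM₀ m hm a]; exact hm
  let inst : MulAction A (M ⧸ M₀) :=
    { smul := fun a => QuotientAddGroup.map M₀ M₀ (act a) (hcomap a)
      one_smul := by
        intro q
        obtain ⟨m, rfl⟩ := QuotientAddGroup.mk_surjective q
        show QuotientAddGroup.map M₀ M₀ (act 1) (hcomap 1) (m : M ⧸ M₀) = _
        rw [QuotientAddGroup.map_mk, act_one]
      mul_smul := by
        intro a b q
        obtain ⟨m, rfl⟩ := QuotientAddGroup.mk_surjective q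
        show QuotientAddGroup.map M₀ M₀ (act (a * b)) (hcomap _) (m : M ⧸ M₀) =
          QuotientAddGroup.map M₀ M₀ (act a) (hcomap _)
            (QuotientAddGroup.map M₀ M₀ (act b) (hcomap _) (m : M ⧸ M₀))
        rw [QuotientAddGroup.map_mk, QuotientAddGroup.map_mk, QuotientAddGroup.map_mk, act_mul] }
  have hsm : ∀ (a : A) (m : M), a • (m : M ⧸ M₀) = ((act a m : M) : M ⧸ M₀) := fun a m => rfl
  have hPM : IsPGroup p (Multiplicative M) := by
    intro g
    refine ⟨1, ?_⟩
    rw [pow_one]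
    show Multiplicative.ofAdd (p • Multiplicative.toAdd g) = 1
    rw [hM]; rfl
  obtain ⟨k, hk⟩ := IsPGroup.iff_card.mp hPM
  have hk' : Nat.card M = p ^ k := hk
  have hdvd0 : Nat.card (M ⧸ M₀) ∣ p ^ k := by
    rw [← hk']; exact AddSubgroup.card_quotient_dvd_card M₀
  obtain ⟨j, hj, hcj⟩ := (Nat.dvd_prime_pow hp).mp hdvd0
  have hnontriv : Nontrivial (M ⧸ M₀) := by
    obtain ⟨m, hm⟩ : ∃ m, m ∉ M₀ := by
      by_contra hcon
      push Not at hcon
      exact hne (eq_top_iff.mpr fun m _ => hcon m)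
    refine ⟨⟨(m : M ⧸ M₀), 0, ?_⟩⟩
    intro h
    exact hm ((QuotientAddGroup.eq_zero_iff m).mp h)
  have hj0 : j ≠ 0 := by
    rintro rfl
    rw [pow_zero] at hcj
    have := Finite.one_lt_card_iff_nontrivial.mpr hnontriv
    omega
  have hdvd : p ∣ Nat.card (M ⧸ M₀) := by
    rw [hcj]; exact dvd_pow_self p hj0
  have h0 : (0 : M ⧸ M₀) ∈ MulAction.fixedPoints A (M ⧸ M₀) := by
    intro a
    have := hsm a 0
    rw [map_zero] at this
    exact this
  obtain ⟨b, hb, hb0⟩ := hA.exists_fixed_point_of_prime_dvd_card_of_fixed_point (M ⧸ M₀) hdvd h0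
  obtain ⟨v, rfl⟩ := QuotientAddGroup.mk_surjective b
  refine ⟨v, ?_, ?_⟩
  · intro hv
    exact hb0 ((QuotientAddGroup.eq_zero_iff v).mpr hv).symm
  · intro a
    have h1 := hb a
    rw [hsm] at h1
    have h2 := QuotientAddGroup.eq.mp h1
    have h3 : act a v - v = -(-(act a v) + v) := by abel
    rw [h3]
    exact M₀.neg_mem h2

variable {F : Type*} [Field F]

theorem wc_eq_neg (c : F) (hc : c ≠ 0) :
    wc c hc = wc (-c) (neg_ne_zero.mpr hc) * (-1) := by
  apply SL2.ext4 <;> simp [SL2.mul00, SL2.mul01, SL2.mul10, SL2.mul11]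

theorem ll_eq (c : F) :
    ll c = wc (1 : F) one_ne_zero * uu (-c) * wc (-1 : F) (neg_ne_zero.mpr one_ne_zero) := by
  apply SL2.ext4 <;> simp [SL2.mul00, SL2.mul01, SL2.mul10, SL2.mul11]

theorem mulVec0 (g : Matrix.SpecialLinearGroup (Fin 2) F) (x : Fin 2 → F) :
    (g.1.mulVec x) 0 = g.1 0 0 * x 0 + g.1 0 1 * x 1 := by
  simp [Matrix.mulVec, dotProduct, Fin.sum_univ_two]

theorem mulVec1 (g : Matrix.SpecialLinearGroup (Fin 2) F) (x : Fin 2 → F) :
    (g.1.mulVec x) 1 = g.1 1 0 * x 0 + g.1 1 1 * x 1 := by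
  simp [Matrix.mulVec, dotProduct, Fin.sum_univ_two]


/-- Recognition of the natural module: `M` finite with `pM = 0`, an irreducible nontrivial action
of `SL₂(F)`, `|F| = pⁿ`, and either quadratic action of the upper unitriangular group or
`|M| ≤ |C_M(U)|²`. Then `M ≃ F²` equivariantly. -/
theorem natural_module [Fintype F] {p : ℕ} [Fact p.Prime] (n : ℕ) (hF : Fintype.card F = p ^ n)
    {M : Type*} [AddCommGroup M] [Finite M]
    (act : Matrix.SpecialLinearGroup (Fin 2) F → M →+ M) (act_one : ∀ m, act 1 m = m)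
    (act_mul : ∀ a b m, act (a * b) m = act a (act b m)) (hM : ∀ m : M, p • m = 0)
    (hirr : ∀ W : AddSubgroup M, (∀ g m, m ∈ W → act g m ∈ W) → W = ⊥ ∨ W = ⊤)
    (hnt : ∃ g m, act g m ≠ m)
    (hyp : (∀ (a b : F) (m : M), act (uu a) (act (uu b) m - m) = act (uu b) m - m) ∨
      Nat.card M ≤ Nat.card {m : M // ∀ c : F, act (uu c) m = m} ^ 2) :
    ∃ ψ : M ≃+ (Fin 2 → F), ∀ g m, ψ (act g m) = g.1.mulVec (ψ m) := by
  classical
  have hp : p.Prime := Fact.out
  have ainj : ∀ g, Function.Injective (act g) := by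
    intro g x y hxy
    have := congrArg (act g⁻¹) hxy
    rwa [← act_mul, ← act_mul, inv_mul_cancel, act_one, act_one] at this
  obtain ⟨M₀, hM₀⟩ : ∃ M₀ : AddSubgroup M, ∀ m, m ∈ M₀ ↔ ∀ c : F, act (uu c) m = m :=
    ⟨{ carrier := {m | ∀ c : F, act (uu c) m = m}
       add_mem' := fun {x y} hx hy c => by rw [map_add, hx c, hy c]
       zero_mem' := fun c => map_zero _
       neg_mem' := fun {x} hx c => by rw [map_neg, hx c] }, fun m => Iff.rfl⟩
  obtain ⟨M₁, hM₁⟩ : ∃ M₁ : AddSubgroup M, ∀ m, m ∈ M₁ ↔ ∀ c : F, act (ll c) m = m :=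
    ⟨{ carrier := {m | ∀ c : F, act (ll c) m = m}
       add_mem' := fun {x y} hx hy c => by rw [map_add, hx c, hy c]
       zero_mem' := fun c => map_zero _
       neg_mem' := fun {x} hx c => by rw [map_neg, hx c] }, fun m => Iff.rfl⟩
  have hnz : ¬ ∀ m : M, m = 0 := by
    intro h
    obtain ⟨g, m, hgm⟩ := hnt
    exact hgm (by rw [h m, map_zero])
  -- `M₀ ∩ M₁ = 0`
  have hint : ∀ m, m ∈ M₀ → m ∈ M₁ → m = 0 := by
    intro m h0 h1
    let C : AddSubgroup M :=
      { carrier := {m | ∀ g, act g m = m}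
        add_mem' := fun {x y} hx hy g => by rw [map_add, hx g, hy g]
        zero_mem' := fun g => map_zero _
        neg_mem' := fun {x} hx g => by rw [map_neg, hx g] }
    have hC : ∀ g m, m ∈ C → act g m ∈ C := by
      intro g m hm
      have : act g m = m := hm g
      rw [this]; exact hm
    let P : Subgroup (Matrix.SpecialLinearGroup (Fin 2) F) :=
      { carrier := {g | act g m = m}
        mul_mem' := fun {a b} ha hb => by
          show act (a * b) m = m
          rw [act_mul, show act b m = m from hb, show act a m = m from ha]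
        one_mem' := act_one m
        inv_mem' := fun {a} ha => by
          show act a⁻¹ m = m
          have h : act a m = m := ha
          have := congrArg (act a⁻¹) h
          rw [← act_mul, inv_mul_cancel, act_one] at this
          exact this.symm }
    have hmC : m ∈ C := fun g => mem_of_uu_ll P ((hM₀ m).mp h0) ((hM₁ m).mp h1) g
    rcases hirr C hC with hbot | htop
    · rw [hbot] at hmC
      exact (AddSubgroup.mem_bot).mp hmC
    · exfalso
      obtain ⟨g, m', hgm⟩ := hnt
      have : m' ∈ C := by rw [htop]; exact AddSubgroup.mem_top _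
      exact hgm (this g)
  have hsw01 : ∀ (c : F) (hc : c ≠ 0) (m : M), m ∈ M₀ → act (wc c hc) m ∈ M₁ := by
    intro c hc m hm
    rw [hM₁]
    intro b
    rw [← act_mul, ll_mul_wc, act_mul, (hM₀ m).mp hm]
  have hsw10 : ∀ (c : F) (hc : c ≠ 0) (m : M), m ∈ M₁ → act (wc c hc) m ∈ M₀ := by
    intro c hc m hm
    rw [hM₀]
    intro b
    rw [← act_mul, uu_mul_wc, act_mul, (hM₁ m).mp hm]
  have hz0 : ∀ m, m ∈ M₀ → act (-1) m ∈ M₀ := by
    intro m hm
    rw [hM₀]
    intro b
    rw [← act_mul, ← neg_one_mul_comm, act_mul, (hM₀ m).mp hm]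
  have hz1 : ∀ m, m ∈ M₁ → act (-1) m ∈ M₁ := by
    intro m hm
    rw [hM₁]
    intro b
    rw [← act_mul, ← neg_one_mul_comm, act_mul, (hM₁ m).mp hm]
  -- the key computation
  have keyD : ∀ (c : F) (hc : c ≠ 0) (v : M), v ∈ M₁ → act (uu c) v - v ∈ M₀ →
      act (uu c) v - v = act (wc c hc) v ∧ act (-1) v = -v := by
    intro c hc v hv ha
    have hc' : -c ≠ 0 := neg_ne_zero.mpr hc
    have ha' : ∀ b : F, act (uu b) (act (uu c) v - v) = act (uu c) v - v := (hM₀ _).mp ha
    have htt' : wc c hc * wc (-c) hc' = 1 := wc_mul_wc_neg c hc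
    have ht't : wc (-c) hc' * wc c hc = 1 := wc_neg_mul_wc c hc
    have ht't' : wc (-c) hc' * wc (-c) hc' = -1 := wc_mul_self (-c) hc'
    have htt : wc c hc * wc c hc = -1 := wc_mul_self c hc
    have hy : act (wc (-c) hc') v ∈ M₀ := hsw10 (-c) hc' v hv
    have hy' : ∀ b : F, act (uu b) (act (wc (-c) hc') v) = act (wc (-c) hc') v := (hM₀ _).mp hy
    obtain ⟨a, ha_def⟩ : ∃ a, a = act (uu c) v - v := ⟨_, rfl⟩
    rw [← ha_def] at ha ha' ⊢
    have huv : act (uu c) v = v + a := by rw [ha_def]; abel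
    have hu'v : act (uu (-c)) v = v - a := by
      have h1 : act (uu (-c)) (act (uu c) v) = v := by
        rw [← act_mul, uu_mul, neg_add_cancel, uu_zero, act_one]
      rw [huv, map_add, ha' (-c)] at h1
      exact eq_sub_of_add_eq h1
    have hL : act (wc c hc * uu c * wc c hc) (act (wc (-c) hc') v) =
        act (wc c hc) v + act (wc c hc) a := by
      rw [act_mul, act_mul, ← act_mul (wc c hc) (wc (-c) hc'), htt', act_one, huv, map_add]
    have hR : act (uu (-c) * wc (-c) hc' * uu (-c)) (act (wc (-c) hc') v) =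
        act (-1) v - act (-1) a := by
      rw [act_mul, act_mul, hy' (-c), ← act_mul (wc (-c) hc') (wc (-c) hc'), ht't', ← act_mul,
        ← neg_one_mul_comm, act_mul, hu'v, map_sub]
    have hE : act (wc c hc) v + act (wc c hc) a = act (-1) v - act (-1) a := by
      rw [← hL, ← hR, wc_uu_wc]
    have hx1eq : act (wc c hc) v + act (-1) a = act (-1) v - act (wc c hc) a := by
      have h1 : act (wc c hc) v + act (-1) a - (act (-1) v - act (wc c hc) a) =
          (act (wc c hc) v + act (wc c hc) a) - (act (-1) v - act (-1) a) := by abel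
      rw [hE, sub_self] at h1
      exact sub_eq_zero.mp h1
    have hx0 : act (wc c hc) v + act (-1) a ∈ M₀ := M₀.add_mem (hsw10 c hc v hv) (hz0 a ha)
    have hx1 : act (wc c hc) v + act (-1) a ∈ M₁ := by
      rw [hx1eq]; exact M₁.sub_mem (hz1 v hv) (hsw01 c hc a ha)
    have hx : act (wc c hc) v + act (-1) a = 0 := hint _ hx0 hx1
    have hii : act (-1) v = act (wc c hc) a := sub_eq_zero.mp (hx1eq.symm.trans hx)
    have hza : act (-1) a = act (-1) (act (wc c hc) v) := by
      have h1 : act (wc c hc) (act (wc c hc) a) = act (wc c hc) (act (-1) v) := by rw [hii]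
      rw [← act_mul, htt, ← act_mul, ← neg_one_mul_comm, act_mul] at h1
      exact h1
    have hatv : a = act (wc c hc) v := ainj (-1) hza
    refine ⟨hatv, ?_⟩
    have hza' : act (-1) a = -a := by
      rw [← hatv] at hx
      exact (neg_eq_of_add_eq_zero_right hx).symm
    have hv' : v = act (wc (-c) hc') a := by
      rw [hatv, ← act_mul, ht't, act_one]
    calc act (-1) v = act (-1) (act (wc (-c) hc') a) := by rw [← hv']
      _ = act (wc (-c) hc') (act (-1) a) := by rw [← act_mul, neg_one_mul_comm, act_mul]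
      _ = act (wc (-c) hc') (-a) := by rw [hza']
      _ = -act (wc (-c) hc') a := map_neg _ _
      _ = -v := by rw [← hv']
  have h1ne : (1 : F) ≠ 0 := one_ne_zero
  have hm1ne : (-1 : F) ≠ 0 := neg_ne_zero.mpr h1ne
  -- a nonzero vector of `M₁` fixed modulo `M₀`
  have hv₁ : ∃ v₁, v₁ ∈ M₁ ∧ v₁ ≠ 0 ∧ ∀ c : F, act (uu c) v₁ - v₁ ∈ M₀ := by
    rcases hyp with hq | hcard
    · have hN : ∀ (v : M) (c : F), act (uu c) v - v ∈ M₀ :=
        fun v c => (hM₀ _).mpr (fun a => hq a c v)
      have hex : ∃ a₀, a₀ ∈ M₀ ∧ a₀ ≠ 0 := by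
        by_contra hcon
        push Not at hcon
        apply hnz
        intro m
        have hm : m ∈ M₀ := by
          rw [hM₀]
          intro c
          have := hcon _ (hN m c)
          exact sub_eq_zero.mp this
        exact hcon m hm
      obtain ⟨a₀, ha₀, ha₀ne⟩ := hex
      refine ⟨act (wc 1 h1ne) a₀, hsw01 1 h1ne a₀ ha₀, ?_, fun c => hN _ c⟩
      intro h
      apply ha₀ne
      apply ainj (wc 1 h1ne)
      rw [h, map_zero]
    · have hinj : Function.Injective
          (fun xy : M₀ × M₀ => (xy.1 : M) + act (wc 1 h1ne) (xy.2 : M)) := by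
        rintro ⟨x, y⟩ ⟨x', y'⟩ h
        have h' : (x : M) + act (wc 1 h1ne) (y : M) = (x' : M) + act (wc 1 h1ne) (y' : M) := h
        have hd : (x : M) - x' = act (wc 1 h1ne) ((y' : M) - y) := by
          rw [map_sub]
          have h2 : (x : M) - x' - (act (wc 1 h1ne) (y' : M) - act (wc 1 h1ne) (y : M)) =
              ((x : M) + act (wc 1 h1ne) (y : M)) - ((x' : M) + act (wc 1 h1ne) (y' : M)) := by
            abel
          rw [h', sub_self] at h2
          exact sub_eq_zero.mp h2
        have hz : (x : M) - x' = 0 :=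
          hint _ (M₀.sub_mem x.2 x'.2)
            (by rw [hd]; exact hsw01 1 h1ne _ (M₀.sub_mem y'.2 y.2))
        have hxx : (x : M) = x' := sub_eq_zero.mp hz
        have hyy : (y' : M) - y = 0 := by
          apply ainj (wc 1 h1ne)
          rw [← hd, hz, map_zero]
        have hyy' : (y : M) = y' := (sub_eq_zero.mp hyy).symm
        exact Prod.ext (Subtype.ext hxx) (Subtype.ext hyy')
      have hcard' : Nat.card M ≤ Nat.card (M₀ × M₀) := by
        rw [Nat.card_prod, ← sq]
        have : Nat.card {m : M // ∀ c : F, act (uu c) m = m} = Nat.card M₀ :=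
          Nat.card_congr (Equiv.subtypeEquivRight (fun m => (hM₀ m).symm))
        rw [← this]; exact hcard
      have hsurj := (hinj.bijective_of_nat_card_le hcard').2
      have hne : M₀ ≠ ⊤ := by
        intro htop
        apply hnz
        intro m
        have hm0 : m ∈ M₀ := by rw [htop]; exact AddSubgroup.mem_top _
        have hm1 : m ∈ M₁ := by
          have h1 : act (wc (-1 : F) hm1ne) m ∈ M₀ := by rw [htop]; exact AddSubgroup.mem_top _
          have h2 := hsw01 1 h1ne _ h1
          rwa [← act_mul, wc_mul_wc_neg, act_one] at h2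
        exact hint m hm0 hm1
      have hPF : IsPGroup p (Multiplicative F) := by
        apply IsPGroup.of_card (n := n)
        rw [Nat.card_eq_fintype_card, Fintype.card_multiplicative, hF]
      obtain ⟨v, hv, hvN⟩ := exists_fixed_mod p hPF
        (fun c : Multiplicative F => act (uu (Multiplicative.toAdd c)))
        (fun m => by
          show act (uu (Multiplicative.toAdd (1 : Multiplicative F))) m = m
          rw [toAdd_one, uu_zero, act_one])
        (fun a b m => by
          show act (uu (Multiplicative.toAdd (a * b))) m = _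
          rw [toAdd_mul, ← uu_mul, act_mul])
        hM M₀ (fun m hm c => (hM₀ m).mp hm _) hne
      obtain ⟨⟨x, y⟩, hxy⟩ := hsurj v
      have hxy' : (x : M) + act (wc 1 h1ne) (y : M) = v := hxy
      refine ⟨act (wc 1 h1ne) (y : M), hsw01 1 h1ne _ y.2, ?_, ?_⟩
      · intro h
        apply hv
        rw [← hxy', h, add_zero]; exact x.2
      · intro c
        have h1' : act (uu c) v - v ∈ M₀ := hvN (Multiplicative.ofAdd c)
        have h2 : act (uu c) (act (wc 1 h1ne) (y : M)) - act (wc 1 h1ne) (y : M) =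
            act (uu c) v - v := by
          rw [← hxy', map_add, (hM₀ _).mp x.2 c]; abel
        rw [h2]; exact h1'
  obtain ⟨v₁, hv₁1, hv₁ne, hv₁N⟩ := hv₁
  -- the maps `A`, `B`
  obtain ⟨A, hAdef⟩ : ∃ A : F → M, ∀ c, A c = act (uu c) v₁ - v₁ := ⟨_, fun c => rfl⟩
  have hA0 : ∀ c, A c ∈ M₀ := fun c => by rw [hAdef]; exact hv₁N c
  have hA0' : ∀ c b, act (uu b) (A c) = A c := fun c b => (hM₀ _).mp (hA0 c) b
  have hAu : ∀ c, act (uu c) v₁ = v₁ + A c := fun c => by rw [hAdef]; abel
  have hAt : ∀ (c : F) (hc : c ≠ 0), A c = act (wc c hc) v₁ := fun c hc => by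
    rw [hAdef]; exact (keyD c hc v₁ hv₁1 (hv₁N c)).1
  have hzv₁ : act (-1) v₁ = -v₁ := (keyD 1 h1ne v₁ hv₁1 (hv₁N 1)).2
  have hAzero : A 0 = 0 := by
    rw [hAdef, uu_zero, act_one, sub_self]
  have hAadd : ∀ a b, A (a + b) = A a + A b := by
    intro a b
    rw [hAdef (a + b), ← uu_mul, act_mul, hAu b, map_add, hA0' b a, hAu a]
    abel
  have hAneg : ∀ a, A (-a) = -A a := by
    intro a
    have := hAadd a (-a)
    rw [add_neg_cancel, hAzero] at this
    exact (neg_eq_of_add_eq_zero_right this.symm).symm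
  have hAz : ∀ c, act (-1) (A c) = -A c := by
    intro c
    by_cases hc : c = 0
    · rw [hc, hAzero, map_zero, neg_zero]
    · rw [hAt c hc, ← act_mul, neg_one_mul_comm, act_mul, hzv₁, map_neg]
  have hAinj : ∀ c, A c = 0 → c = 0 := by
    intro c h
    by_contra hc
    rw [hAt c hc] at h
    apply hv₁ne
    apply ainj (wc c hc)
    rw [h, map_zero]
  obtain ⟨B, hBdef⟩ : ∃ B : F → M, ∀ c, B c = act (wc (-1) hm1ne) (A c) := ⟨_, fun c => rfl⟩
  have hB1 : ∀ c, B c ∈ M₁ := fun c => by rw [hBdef]; exact hsw01 (-1) hm1ne _ (hA0 c)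
  have hBk : ∀ (b : F) (hb : b ≠ 0), B b = act (kk b hb) v₁ := by
    intro b hb
    rw [hBdef, hAt b hb, ← act_mul, wc_neg_one_mul_wc]
  have hBzero : B 0 = 0 := by rw [hBdef, hAzero, map_zero]
  have hBadd : ∀ a b, B (a + b) = B a + B b := by
    intro a b; rw [hBdef, hBdef, hBdef, hAadd, map_add]
  have hBneg : ∀ a, B (-a) = -B a := by
    intro a; rw [hBdef, hBdef, hAneg, map_neg]
  have huB : ∀ c b, act (uu c) (B b) = B b + A (c * b) := by
    intro c b
    by_cases hb : b = 0
    · rw [hb, hBzero, mul_zero, hAzero, map_zero, add_zero]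
    by_cases hc : c = 0
    · rw [hc, uu_zero, act_one, zero_mul, hAzero, add_zero]
    have hcb2 : c * b ^ 2 ≠ 0 := mul_ne_zero hc (pow_ne_zero 2 hb)
    rw [hBk b hb, ← act_mul, uu_mul_kk, act_mul, hAu, map_add, hAt _ hcb2,
      ← act_mul (kk b hb), kk_mul_wc b c hb hc, ← hAt]
  -- the equivariant map
  let φ : (Fin 2 → F) →+ M :=
    { toFun := fun x => A (x 0) + B (x 1)
      map_zero' := by
        show A 0 + B 0 = 0
        rw [hAzero, hBzero, add_zero]
      map_add' := by
        intro x y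
        show A (x 0 + y 0) + B (x 1 + y 1) = (A (x 0) + B (x 1)) + (A (y 0) + B (y 1))
        rw [hAadd, hBadd]; abel }
  have hφ : ∀ x, φ x = A (x 0) + B (x 1) := fun x => rfl
  let E : Subgroup (Matrix.SpecialLinearGroup (Fin 2) F) :=
    { carrier := {g | ∀ x, φ (g.1.mulVec x) = act g (φ x)}
      mul_mem' := by
        intro a b ha hb x
        have ha' : ∀ x, φ (a.1.mulVec x) = act a (φ x) := ha
        have hb' : ∀ x, φ (b.1.mulVec x) = act b (φ x) := hb
        rw [Matrix.SpecialLinearGroup.coe_mul, ← Matrix.mulVec_mulVec, ha', hb', act_mul]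
      one_mem' := by
        intro x
        rw [Matrix.SpecialLinearGroup.coe_one, Matrix.one_mulVec, act_one]
      inv_mem' := by
        intro a ha x
        have ha' : ∀ x, φ (a.1.mulVec x) = act a (φ x) := ha
        apply ainj a
        rw [← ha', Matrix.mulVec_mulVec, ← Matrix.SpecialLinearGroup.coe_mul, mul_inv_cancel,
          Matrix.SpecialLinearGroup.coe_one, Matrix.one_mulVec, ← act_mul, mul_inv_cancel,
          act_one] }
  have hEu : ∀ c, uu c ∈ E := by
    intro c x
    rw [hφ, hφ, mulVec0, mulVec1]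
    simp only [uu_00, uu_01, uu_10, uu_11, one_mul, zero_mul, zero_add]
    rw [hAadd, map_add, hA0', huB]
    abel
  have hEw : wc 1 h1ne ∈ E := by
    intro x
    rw [hφ, hφ, mulVec0, mulVec1]
    simp only [wc_00, wc_01, wc_10, wc_11, one_mul, zero_mul, zero_add, add_zero, inv_one,
      neg_mul]
    rw [hBneg, map_add]
    have h1 : act (wc 1 h1ne) (A (x 0)) = -B (x 0) := by
      rw [hBdef, wc_eq_neg 1 h1ne, act_mul, hAz, map_neg]
    have h2 : act (wc 1 h1ne) (B (x 1)) = A (x 1) := by
      rw [hBdef, ← act_mul, wc_mul_wc_neg, act_one]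
    rw [h1, h2]; abel
  have hEw' : wc (-1) hm1ne ∈ E := by
    have : wc (-1 : F) hm1ne = (wc 1 h1ne)⁻¹ :=
      (inv_eq_of_mul_eq_one_right (wc_mul_wc_neg 1 h1ne)).symm
    rw [this]; exact E.inv_mem hEw
  have hEl : ∀ c, ll c ∈ E := by
    intro c
    rw [ll_eq]
    exact E.mul_mem (E.mul_mem hEw (hEu _)) hEw'
  have hequiv : ∀ g x, φ (g.1.mulVec x) = act g (φ x) := fun g => mem_of_uu_ll E hEu hEl g
  have hφinj : Function.Injective φ := by
    rw [injective_iff_map_eq_zero]
    intro x hx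
    rw [hφ] at hx
    have h0 : A (x 0) = -B (x 1) := eq_neg_of_add_eq_zero_left hx
    have hA00 : A (x 0) = 0 := hint _ (hA0 _) (by rw [h0]; exact M₁.neg_mem (hB1 _))
    have hB00 : B (x 1) = 0 := by
      rw [hA00] at h0
      exact neg_eq_zero.mp h0.symm
    have hA10 : A (x 1) = 0 := by
      apply ainj (wc (-1) hm1ne)
      rw [map_zero, ← hBdef]; exact hB00
    funext i
    fin_cases i
    · exact hAinj _ hA00
    · exact hAinj _ hA10
  have hφsurj : Function.Surjective φ := by
    have hR : ∀ g m, m ∈ φ.range → act g m ∈ φ.range := by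
      rintro g m ⟨x, rfl⟩
      exact ⟨g.1.mulVec x, hequiv g x⟩
    rcases hirr φ.range hR with hbot | htop
    · exfalso
      have h1 : φ ![0, 1] ∈ φ.range := ⟨_, rfl⟩
      rw [hbot, AddSubgroup.mem_bot] at h1
      have h2 : (![0, 1] : Fin 2 → F) = 0 := hφinj (by rw [h1, map_zero])
      have h3 := congrFun h2 1
      simp at h3
    · intro m
      have : m ∈ φ.range := by rw [htop]; exact AddSubgroup.mem_top _
      exact this
  refine ⟨(AddEquiv.ofBijective φ ⟨hφinj, hφsurj⟩).symm, ?_⟩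
  intro g m
  obtain ⟨x, rfl⟩ := hφsurj m
  rw [← hequiv]
  have h1 : (AddEquiv.ofBijective φ ⟨hφinj, hφsurj⟩).symm (φ x) = x :=
    (AddEquiv.ofBijective φ ⟨hφinj, hφsurj⟩).symm_apply_apply x
  have h2 : (AddEquiv.ofBijective φ ⟨hφinj, hφsurj⟩).symm (φ (g.1.mulVec x)) = g.1.mulVec x :=
    (AddEquiv.ofBijective φ ⟨hφinj, hφsurj⟩).symm_apply_apply _
  rw [h1, h2]


/-- Multiplicative version of `natural_module`. -/
theorem natural_module_mul [Fintype F] {p : ℕ} [Fact p.Prime] (n : ℕ) (hF : Fintype.card F = p ^ n)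
    {W : Type*} [CommGroup W] [Finite W]
    (act : Matrix.SpecialLinearGroup (Fin 2) F → W →* W) (act_one : ∀ w, act 1 w = w)
    (act_mul : ∀ a b w, act (a * b) w = act a (act b w)) (hW : ∀ w : W, w ^ p = 1)
    (hirr : ∀ U : Subgroup W, (∀ g w, w ∈ U → act g w ∈ U) → U = ⊥ ∨ U = ⊤)
    (hnt : ∃ g w, act g w ≠ w)
    (hyp : (∀ (a b : F) (w : W), act (uu a) (act (uu b) w / w) = act (uu b) w / w) ∨
      Nat.card W ≤ Nat.card {w : W // ∀ c : F, act (uu c) w = w} ^ 2) :
    ∃ ψ : W ≃* Multiplicative (Fin 2 → F), ∀ g w,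
      Multiplicative.toAdd (ψ (act g w)) = g.1.mulVec (Multiplicative.toAdd (ψ w)) := by
  have hirr' : ∀ W' : AddSubgroup (Additive W),
      (∀ g m, m ∈ W' → (MonoidHom.toAdditive (act g)) m ∈ W') → W' = ⊥ ∨ W' = ⊤ := by
    intro W' hW'
    let U : Subgroup W :=
      { carrier := {w | Additive.ofMul w ∈ W'}
        mul_mem' := fun {a b} ha hb => W'.add_mem ha hb
        one_mem' := W'.zero_mem
        inv_mem' := fun {a} ha => W'.neg_mem ha }
    have hU : ∀ g w, w ∈ U → act g w ∈ U := fun g w hw => hW' g (Additive.ofMul w) hw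
    rcases hirr U hU with h | h
    · left
      rw [eq_bot_iff]
      intro m hm
      have h1 : Additive.toMul m ∈ U := hm
      rw [h, Subgroup.mem_bot] at h1
      rw [AddSubgroup.mem_bot]
      exact h1
    · right
      rw [eq_top_iff]
      intro m _
      have h1 : Additive.toMul m ∈ U := by rw [h]; exact Subgroup.mem_top _
      exact h1
  have hyp' : (∀ (a b : F) (m : Additive W),
      (MonoidHom.toAdditive (act (uu a))) ((MonoidHom.toAdditive (act (uu b))) m - m) =
        (MonoidHom.toAdditive (act (uu b))) m - m) ∨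
      Nat.card (Additive W) ≤
        Nat.card {m : Additive W // ∀ c : F, (MonoidHom.toAdditive (act (uu c))) m = m} ^ 2 := by
    rcases hyp with h | h
    · left
      intro a b m
      exact h a b (Additive.toMul m)
    · right
      exact h
  obtain ⟨ψ, hψ⟩ := natural_module n hF (M := Additive W)
    (fun g => MonoidHom.toAdditive (act g)) (fun m => act_one (Additive.toMul m))
    (fun a b m => act_mul a b (Additive.toMul m)) (fun m => hW (Additive.toMul m)) hirr'
    (by obtain ⟨g, w, h⟩ := hnt; exact ⟨g, Additive.ofMul w, h⟩) hyp'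
  refine ⟨AddEquiv.toMultiplicativeRight ψ, ?_⟩
  intro g w
  exact hψ g (Additive.ofMul w)

end Cfsg.Agent.H65.NatRec
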