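import Mathlib
import Cfsg.Prelude
import Cfsg.Agent.H7.PsDefs
import Cfsg.Agent.H45.SpRS

set_option autoImplicit false
set_option linter.style.haveILetI false
set_option linter.unusedVariables false

/-!
# PS-EX6 (helper7's team project S3664)

`PSp₆(3)` has an element of order 6: the image of `u ⊕ (-1) ⊕ 1` with `u` of order 3 in
`SL₂(3)`.
-/

namespace Cfsg.Agent.H65.Ps

open Cfsg Cfsg.Agent.H7.Ps Matrix

/-- explicit matrix: `u ⊕ (-1) ⊕ 1` -/
def m6 : Mat :=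
  Matrix.fromBlocks !![1, 0, 0; 0, 2, 0; 0, 0, 1] !![1, 0, 0; 0, 0, 0; 0, 0, 0]
    !![0, 0, 0; 0, 0, 0; 0, 0, 0] !![1, 0, 0; 0, 2, 0; 0, 0, 1]

/-- its square -/
def m6p2 : Mat :=
  Matrix.fromBlocks !![1, 0, 0; 0, 1, 0; 0, 0, 1] !![2, 0, 0; 0, 0, 0; 0, 0, 0]
    !![0, 0, 0; 0, 0, 0; 0, 0, 0] !![1, 0, 0; 0, 1, 0; 0, 0, 1]

/-- its cube -/
def m6p3 : Mat :=
  Matrix.fromBlocks !![1, 0, 0; 0, 2, 0; 0, 0, 1] !![0, 0, 0; 0, 0, 0; 0, 0, 0]
    !![0, 0, 0; 0, 0, 0; 0, 0, 0] !![1, 0, 0; 0, 2, 0; 0, 0, 1]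

theorem m6_mem : m6 ∈ Sp := SymplecticGroup.mem_iff.2 (by decide +kernel)

theorem m6_mul : m6 * m6 = m6p2 := by decide +kernel

theorem m6p2_mul : m6p2 * m6 = m6p3 := by decide +kernel

theorem m6p3_mul : m6p3 * m6p3 = 1 := by decide +kernel

theorem m6p2_ne_one : m6p2 ≠ 1 := by decide +kernel

theorem m6p2_ne_neg : m6p2 ≠ -1 := by decide +kernel

theorem m6p3_ne_one : m6p3 ≠ 1 := by decide +kernel

theorem m6p3_ne_neg : m6p3 ≠ -1 := by decide +kernel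

theorem m6_pow2 : m6 ^ 2 = m6p2 := by rw [pow_two]; exact m6_mul

theorem m6_pow3 : m6 ^ 3 = m6p3 := by
  have h := pow_succ m6 2
  rw [m6_pow2, m6p2_mul] at h
  exact h

theorem m6_pow6 : m6 ^ 6 = 1 := by
  have h := pow_mul m6 3 2
  rw [m6_pow3, pow_two, m6p3_mul] at h
  exact h

/-- the element of `Sp₆(3)` -/
def a6 : Matrix.symplecticGroup (Fin 3) (ZMod 3) := ⟨m6, m6_mem⟩

theorem a6_pow_val (k : ℕ) : ((a6 ^ k : Matrix.symplecticGroup (Fin 3) (ZMod 3)) : Mat) = m6 ^ k :=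
  SubmonoidClass.coe_pow a6 k

theorem not_central (k : ℕ) (h1 : m6 ^ k ≠ 1) (h2 : m6 ^ k ≠ -1) :
    (QuotientGroup.mk a6 : L) ^ k ≠ 1 := by
  intro h
  rw [← QuotientGroup.mk_pow, QuotientGroup.eq_one_iff, Cfsg.Agent.H45.sp_mem_center_iff] at h
  rcases h with h | h
  · apply h1
    have := congrArg Subtype.val h
    rw [a6_pow_val] at this
    exact this
  · apply h2
    have := congrArg Subtype.val h
    rw [a6_pow_val] at this
    exact this

theorem ex6 : StEx6 := by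
  refine ⟨(QuotientGroup.mk a6 : L), ?_⟩
  apply orderOf_eq_of_pow_and_pow_div_prime (by norm_num)
  · rw [← QuotientGroup.mk_pow]
    have : a6 ^ 6 = 1 := by
      apply Subtype.ext
      rw [a6_pow_val, m6_pow6]
      rfl
    rw [this]
    rfl
  · intro p hp hd
    have hp6 : p ∣ 2 * 3 := hd
    rcases (Nat.Prime.dvd_mul hp).mp hp6 with h | h
    · have hp2 : p = 2 := (Nat.prime_dvd_prime_iff_eq hp (by norm_num)).mp h
      subst hp2
      exact not_central 3 (by rw [m6_pow3]; exact m6p3_ne_one) (by rw [m6_pow3]; exact m6p3_ne_neg)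
    · have hp3 : p = 3 := (Nat.prime_dvd_prime_iff_eq hp (by norm_num)).mp h
      subst hp3
      exact not_central 2 (by rw [m6_pow2]; exact m6p2_ne_one) (by rw [m6_pow2]; exact m6p2_ne_neg)

end Cfsg.Agent.H65.Ps

example : Cfsg.Agent.H7.Ps.StEx6 := Cfsg.Agent.H65.Ps.ex6
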