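import Mathlib
import Cfsg.Prelude
import Cfsg.Agent.H7.PsDefs
import Cfsg.Agent.S2469
import Cfsg.Agent.S2472

set_option autoImplicit false
set_option linter.style.haveILetI false
set_option linter.unusedVariables false

/-!
# PS-ODD (helper7's team project S3664)

The non-adjacent pairs of odd primes in the prime graph of `PSp₆(3)`: no elements of order
`21, 35, 39, 65, 91`, from the landed rows S2469 and S2472.
-/

namespace Cfsg.Agent.H65.Ps

open Cfsg Cfsg.Agent.H7.Ps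

theorem ord_three_mod5 : orderOf (3 : ZMod 5) = 4 := by
  rw [orderOf_eq_iff (by norm_num)]
  refine ⟨by decide, ?_⟩
  intro m hm hm0
  interval_cases m <;> decide

theorem ord_three_mod7 : orderOf (3 : ZMod 7) = 6 := by
  rw [orderOf_eq_iff (by norm_num)]
  refine ⟨by decide, ?_⟩
  intro m hm hm0
  interval_cases m <;> decide

theorem ord_three_mod13 : orderOf (3 : ZMod 13) = 3 := by
  rw [orderOf_eq_iff (by norm_num)]
  refine ⟨by decide, ?_⟩
  intro m hm hm0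
  interval_cases m <;> decide

theorem odd : StOdd := by
  intro h5 h7 h13
  haveI : Fact (Nat.Prime 3) := ⟨by norm_num⟩
  have hc : Fintype.card (ZMod 3) = 3 := ZMod.card 3
  have k5 : 4 = orderOf ((Fintype.card (ZMod 3) : ℕ) : ZMod 5) := by
    rw [hc]; exact ord_three_mod5.symm
  have k7 : 6 = orderOf ((Fintype.card (ZMod 3) : ℕ) : ZMod 7) := by
    rw [hc]; exact ord_three_mod7.symm
  have k13 : 3 = orderOf ((Fintype.card (ZMod 3) : ℕ) : ZMod 13) := by
    rw [hc]; exact ord_three_mod13.symm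
  have e4 : (Odd 4 ∧ 2 = 4) ∨ (Even 4 ∧ 2 * 2 = 4) := Or.inr ⟨by decide, rfl⟩
  have e6 : (Odd 6 ∧ 3 = 6) ∨ (Even 6 ∧ 2 * 3 = 6) := Or.inr ⟨by decide, rfl⟩
  have e3 : (Odd 3 ∧ 3 = 3) ∨ (Even 3 ∧ 2 * 3 = 3) := Or.inl ⟨by decide, rfl⟩
  have n21 : 7 * 3 ∉ Set.range (orderOf : Cfsg.PSp 3 (ZMod 3) → ℕ) :=
    (Cfsg.Agent.S2472.result (F := ZMod 3) 3 3 (by norm_num) (by norm_num) 7 (by norm_num)
      (by norm_num) (by norm_num) h7 6 3 k7 e6).mpr (by norm_num)
  have n39 : 13 * 3 ∉ Set.range (orderOf : Cfsg.PSp 3 (ZMod 3) → ℕ) :=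
    (Cfsg.Agent.S2472.result (F := ZMod 3) 3 3 (by norm_num) (by norm_num) 13 (by norm_num)
      (by norm_num) (by norm_num) h13 3 3 k13 e3).mpr (by norm_num)
  have n35 : 5 * 7 ∉ Set.range (orderOf : Cfsg.PSp 3 (ZMod 3) → ℕ) :=
    (Cfsg.Agent.S2469.result (F := ZMod 3) 3 3 (by norm_num) (by norm_num) 5 7 (by norm_num)
      (by norm_num) (by norm_num) (by norm_num) (by norm_num) (by norm_num) (by norm_num) h5 h7
      4 6 2 3 k5 k7 e4 e6 (by norm_num)).mpr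
      ⟨by norm_num, by rintro ⟨t, -, ht⟩; omega⟩
  have n65 : 5 * 13 ∉ Set.range (orderOf : Cfsg.PSp 3 (ZMod 3) → ℕ) :=
    (Cfsg.Agent.S2469.result (F := ZMod 3) 3 3 (by norm_num) (by norm_num) 5 13 (by norm_num)
      (by norm_num) (by norm_num) (by norm_num) (by norm_num) (by norm_num) (by norm_num) h5 h13
      4 3 2 3 k5 k13 e4 e3 (by norm_num)).mpr
      ⟨by norm_num, by rintro ⟨t, -, ht⟩; omega⟩
  have n91 : 7 * 13 ∉ Set.range (orderOf : Cfsg.PSp 3 (ZMod 3) → ℕ) :=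
    (Cfsg.Agent.S2469.result (F := ZMod 3) 3 3 (by norm_num) (by norm_num) 7 13 (by norm_num)
      (by norm_num) (by norm_num) (by norm_num) (by norm_num) (by norm_num) (by norm_num) h7 h13
      6 3 3 3 k7 k13 e6 e3 (by norm_num)).mpr
      ⟨by norm_num, by rintro ⟨t, -, ht⟩; omega⟩
  intro g
  refine ⟨fun h => n21 ⟨g, h⟩, fun h => n35 ⟨g, h⟩, fun h => n39 ⟨g, h⟩, fun h => n65 ⟨g, h⟩,
    fun h => n91 ⟨g, h⟩⟩

end Cfsg.Agent.H65.Ps

example : Cfsg.Agent.H7.Ps.StOdd := Cfsg.Agent.H65.Ps.odd
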