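import Mathlib
import Cfsg.Agent.H69.RSDefs

/-!
# S2361 piece RS-ARITH (helper65): a prime `p > 3` dividing `|²G₂(q)|` divides a torus order

`q = 3^(2m+1)`, `r = 3^(m+1)`, `|G| = q³(q-1)(q³+1)` and
`q³ + 1 = (q+1)(q-r+1)(q+r+1)`, `q - 1 = 2·((q-1)/2)`, `q + 1 = 4·((q+1)/4)`.
-/

set_option autoImplicit false
set_option linter.style.haveILetI false
set_option linter.unusedVariables false

namespace Cfsg.Agent.H65.RS

open Cfsg.Agent.H45.S8 Cfsg.Agent.H69.RS

/-- `3 ^ (2 m + 1) = 24 a + 3`. -/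
theorem pow_form' (m : ℕ) : ∃ a : ℕ, 3 ^ (2 * m + 1) = 24 * a + 3 := by
  have h : ∃ a : ℕ, 9 ^ m = 8 * a + 1 := by
    induction m with
    | zero => exact ⟨0, by norm_num⟩
    | succ n ih =>
      obtain ⟨a, ha⟩ := ih
      exact ⟨9 * a + 1, by rw [pow_succ, ha]; ring⟩
  obtain ⟨a, ha⟩ := h
  refine ⟨a, ?_⟩
  have h1 : 3 ^ (2 * m + 1) = 9 ^ m * 3 := by
    rw [pow_succ, pow_mul]
    norm_num
  rw [h1, ha]
  ring

/-- the factorisation `q³ + 1 = (q+1)(q-r+1)(q+r+1)` -/
theorem cube_factor (m : ℕ) :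
    qq m ^ 3 + 1 = (qq m + 1) * (qq m - rr m + 1) * (qq m + rr m + 1) := by
  obtain ⟨t, ht⟩ : ∃ t : ℕ, 3 ^ m = t + 1 := ⟨3 ^ m - 1, by
    have : 0 < 3 ^ m := by positivity
    omega⟩
  have hq : qq m = 3 * (t + 1) ^ 2 := by
    unfold qq
    rw [pow_succ, pow_mul', ht]; ring
  have hr : rr m = 3 * (t + 1) := by
    unfold rr
    rw [pow_succ, ht]; ring
  have hsub : qq m - rr m = 3 * t ^ 2 + 3 * t := by
    rw [hq, hr]
    apply Nat.sub_eq_of_eq_add
    ring
  rw [hsub, hq, hr]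
  ring

theorem arith : Cfsg.Agent.H69.RS.StArith := by
  intro m p hp hp3 hdvd
  obtain ⟨a, ha⟩ := pow_form' m
  have hqa : qq m = 24 * a + 3 := ha
  have h1 : (qq m - 1) / 2 = 12 * a + 1 := by rw [hqa]; omega
  have h2 : (qq m + 1) / 4 = 6 * a + 1 := by rw [hqa]; omega
  have h3 : qq m - 1 = 2 * (12 * a + 1) := by rw [hqa]; omega
  have h4 : qq m + 1 = 4 * (6 * a + 1) := by rw [hqa]; omega
  have hp2 : ¬ p ∣ 2 := by
    intro h
    have := Nat.le_of_dvd (by norm_num) h
    omega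
  have hp4 : ¬ p ∣ 4 := by
    intro h
    have h' : p ∣ 2 ^ 2 := by norm_num; exact h
    exact hp2 (hp.dvd_of_dvd_pow h')
  have hpq : ¬ p ∣ qq m := by
    intro h
    unfold qq at h
    have h' := hp.dvd_of_dvd_pow h
    have := Nat.le_of_dvd (by norm_num) h'
    omega
  unfold GG at hdvd
  rcases (hp.dvd_mul).mp hdvd with h | h
  · rcases (hp.dvd_mul).mp h with h | h
    · exact absurd (hp.dvd_of_dvd_pow h) hpq
    · rw [h3] at h
      rcases (hp.dvd_mul).mp h with h | h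
      · exact absurd h hp2
      · left; rw [h1]; exact h
  · rw [cube_factor] at h
    rcases (hp.dvd_mul).mp h with h | h
    · rcases (hp.dvd_mul).mp h with h | h
      · rw [h4] at h
        rcases (hp.dvd_mul).mp h with h | h
        · exact absurd h hp4
        · right; left; rw [h2]; exact h
      · right; right; left; exact h
    · right; right; right; exact h

example : Cfsg.Agent.H69.RS.StArith := arith

end Cfsg.Agent.H65.RS
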