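import Mathlib

/-!
# S3641 piece N2, second half (helper65): `n₂ = 153` from the structure

`H ≤ Sym(α)`, `|α| = 18`, `|H| = 18·17·d` (`d = 8` or `16`), `H` 2-transitive, and no nonidentity
element of `H` has three distinct fixed points.  Then the setwise stabiliser `T` of a pair `{a, b}`
is a self-normalising Sylow 2-subgroup of index 153.
-/

set_option autoImplicit false
set_option linter.style.haveILetI false
set_option linter.unusedVariables false

open scoped Pointwise

namespace Cfsg.Agent.H65.SN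

theorem card_sylow_two_of_struct {α : Type*} [Fintype α] [DecidableEq α]
    (hα : Fintype.card α = 18) (H : Subgroup (Equiv.Perm α)) (d : ℕ) (hd : d = 8 ∨ d = 16)
    (hH : Nat.card H = 18 * 17 * d)
    (h2T : ∀ a b c e : α, a ≠ b → c ≠ e → ∃ g ∈ H, g a = c ∧ g b = e)
    (hFix : ∀ g ∈ H, g ≠ 1 → ∀ a b c : α, g a = a → g b = b → g c = c →
      a = b ∨ a = c ∨ b = c) :
    Nat.card (Sylow 2 H) = 153 := by
  classical
  haveI : Fact (Nat.Prime 2) := ⟨Nat.prime_two⟩
  obtain ⟨a, b, hab⟩ : ∃ a b : α, a ≠ b := Fintype.exists_pair_of_one_lt_card (by omega)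
  have hsm : ∀ (g : H) (x : α), g • x = (g : Equiv.Perm α) x := fun g x => rfl
  -- the pointwise stabiliser `E` of `a`, `b`
  set E : Subgroup H := MulAction.stabilizer H ((a, b) : α × α) with hE
  have hEmem : ∀ g : H, g ∈ E ↔ (g : Equiv.Perm α) a = a ∧ (g : Equiv.Perm α) b = b := by
    intro g
    rw [hE, MulAction.mem_stabilizer_iff, Prod.smul_mk, Prod.mk.injEq, hsm, hsm]
  have hEorb : MulAction.orbit H ((a, b) : α × α) = {p : α × α | p.1 ≠ p.2} := by
    ext ⟨c, e⟩
    constructor
    · rintro ⟨g, hg⟩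
      have hg' : (g • a, g • b) = (c, e) := hg
      rw [Prod.mk.injEq, hsm, hsm] at hg'
      show c ≠ e
      rw [← hg'.1, ← hg'.2]
      exact fun h => hab ((g : Equiv.Perm α).injective h)
    · intro hce
      obtain ⟨g, hg, hc, he⟩ := h2T a b c e hab hce
      refine ⟨⟨g, hg⟩, ?_⟩
      show ((⟨g, hg⟩ : H) • a, (⟨g, hg⟩ : H) • b) = (c, e)
      rw [hsm, hsm]
      exact Prod.ext hc he
  have hEidx : E.index = 306 := by
    rw [hE, MulAction.index_stabilizer, hEorb]
    have h1 : {p : α × α | p.1 ≠ p.2} = ((Finset.univ : Finset α).offDiag : Set (α × α)) := by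
      ext p
      simp
    rw [h1, Set.ncard_coe_finset, Finset.offDiag_card, Finset.card_univ, hα]
  have hEcard : Nat.card E = d := by
    have h1 := Subgroup.card_mul_index E
    rw [hEidx, hH] at h1
    omega
  -- the setwise stabiliser `T` of `{a, b}`
  set T : Subgroup H := MulAction.stabilizer H ({a, b} : Finset α) with hT
  have hpair : ∀ x y : α, x ≠ y → (({x, y} : Finset α) = {a, b} ↔
      (x = a ∧ y = b) ∨ (x = b ∧ y = a)) := by
    intro x y hxy
    constructor
    · intro h
      have hx : x ∈ ({a, b} : Finset α) := by rw [← h]; simp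
      have hy : y ∈ ({a, b} : Finset α) := by rw [← h]; simp
      simp only [Finset.mem_insert, Finset.mem_singleton] at hx hy
      rcases hx with hx | hx <;> rcases hy with hy | hy
      · exact absurd (hx.trans hy.symm) hxy
      · exact Or.inl ⟨hx, hy⟩
      · exact Or.inr ⟨hx, hy⟩
      · exact absurd (hx.trans hy.symm) hxy
    · rintro (⟨rfl, rfl⟩ | ⟨rfl, rfl⟩)
      · rfl
      · exact Finset.pair_comm _ _
  have hTmem : ∀ g : H, g ∈ T ↔ ((g : Equiv.Perm α) a = a ∧ (g : Equiv.Perm α) b = b) ∨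
      ((g : Equiv.Perm α) a = b ∧ (g : Equiv.Perm α) b = a) := by
    intro g
    rw [hT, MulAction.mem_stabilizer_iff, Finset.smul_finset_insert, Finset.smul_finset_singleton,
      hsm, hsm]
    exact hpair _ _ (fun h => hab ((g : Equiv.Perm α).injective h))
  have hTorb : MulAction.orbit H ({a, b} : Finset α) =
      ((Finset.powersetCard 2 (Finset.univ : Finset α) : Finset (Finset α)) : Set (Finset α)) := by
    ext s
    rw [Finset.mem_coe, Finset.mem_powersetCard]
    constructor
    · rintro ⟨g, hg⟩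
      have hg' : g • ({a, b} : Finset α) = s := hg
      refine ⟨Finset.subset_univ _, ?_⟩
      rw [← hg', Finset.card_smul_finset, Finset.card_pair hab]
    · rintro ⟨-, hs⟩
      obtain ⟨c, e, hce, rfl⟩ := Finset.card_eq_two.mp hs
      obtain ⟨g, hg, hc, he⟩ := h2T a b c e hab hce
      refine ⟨⟨g, hg⟩, ?_⟩
      show (⟨g, hg⟩ : H) • ({a, b} : Finset α) = {c, e}
      rw [Finset.smul_finset_insert, Finset.smul_finset_singleton, hsm, hsm]
      show ({g a, g b} : Finset α) = {c, e}
      rw [hc, he]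
  have hTidx : T.index = 153 := by
    rw [hT, MulAction.index_stabilizer, hTorb, Set.ncard_coe_finset, Finset.card_powersetCard,
      Finset.card_univ, hα]
    rfl
  have hTcard : Nat.card T = 2 * d := by
    have h1 := Subgroup.card_mul_index T
    rw [hTidx, hH] at h1
    omega
  have hET : E ≤ T := fun g hg => (hTmem g).mpr (Or.inl ((hEmem g).mp hg))
  -- `T` is a Sylow 2-subgroup
  have hTp : IsPGroup 2 T := by
    rcases hd with rfl | rfl
    · exact IsPGroup.of_card (n := 4) (by rw [hTcard]; norm_num)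
    · exact IsPGroup.of_card (n := 5) (by rw [hTcard]; norm_num)
  obtain ⟨P, hTP⟩ := hTp.exists_le_sylow
  have hPT : (P : Subgroup H) = T := by
    symm
    apply Subgroup.eq_of_le_of_card_ge hTP
    obtain ⟨n, hn⟩ := IsPGroup.iff_card.mp P.isPGroup'
    obtain ⟨k, hk⟩ := Subgroup.card_dvd_of_le hTP
    have h1 := Subgroup.card_mul_index (P : Subgroup H)
    have h2 : ¬ 2 ∣ (P : Subgroup H).index := P.not_dvd_index
    have hTpos : 0 < Nat.card T := Nat.card_pos
    have h3 : k * (P : Subgroup H).index = 153 := by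
      have h4 : Nat.card T * (k * (P : Subgroup H).index) = Nat.card T * 153 := by
        rw [← mul_assoc, ← hk, h1, hH, hTcard]; ring
      exact Nat.eq_of_mul_eq_mul_left hTpos h4
    have hk2 : k ∣ 2 ^ n := by rw [← hn, hk]; exact Dvd.intro_left _ rfl
    obtain ⟨j, -, hj⟩ := (Nat.dvd_prime_pow Nat.prime_two).mp hk2
    have hj0 : j = 0 := by
      by_contra hne
      have h5 : 2 ∣ k := by rw [hj]; exact dvd_pow_self 2 hne
      have h6 : 2 ∣ 153 := by rw [← h3]; exact Dvd.dvd.mul_right h5 _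
      omega
    rw [hj0, pow_zero] at hj
    rw [hk, hj, mul_one]
  -- `T` is self-normalising
  have hNT : Subgroup.normalizer (T : Set H) = T := by
    apply le_antisymm _ Subgroup.le_normalizer
    intro g hg
    rw [Subgroup.mem_normalizer_iff] at hg
    -- three distinct elements of `E`
    haveI : Fintype E := Fintype.ofFinite E
    have hE3 : 2 < Fintype.card E := by
      rw [← Nat.card_eq_fintype_card, hEcard]
      rcases hd with rfl | rfl <;> norm_num
    obtain ⟨x0, x1, x2, h01, h02, h12⟩ := Fintype.two_lt_card_iff.mp hE3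
    -- the conjugates lie in `T`
    have hconj : ∀ x : E, g * (x : H) * g⁻¹ ∈ T := fun x => (hg (x : H)).mp (hET x.2)
    -- two elements of `T` of the same type
    have hsame : ∀ w1 w2 : H, w1 ∈ T → w2 ∈ T →
        ((w1 : Equiv.Perm α) a = a ↔ (w2 : Equiv.Perm α) a = a) →
        ((w1⁻¹ * w2 : H) : Equiv.Perm α) a = a ∧ ((w1⁻¹ * w2 : H) : Equiv.Perm α) b = b := by
      intro w1 w2 hw1 hw2 hiff
      rw [Subgroup.coe_mul, Subgroup.coe_inv, Equiv.Perm.mul_apply, Equiv.Perm.mul_apply,
        Equiv.Perm.inv_eq_iff_eq, Equiv.Perm.inv_eq_iff_eq]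
      rcases (hTmem w1).mp hw1 with ⟨h1a, h1b⟩ | ⟨h1a, h1b⟩
      · rcases (hTmem w2).mp hw2 with ⟨h2a, h2b⟩ | ⟨h2a, h2b⟩
        · exact ⟨by rw [h2a, h1a], by rw [h2b, h1b]⟩
        · exact absurd ((hiff.mp h1a).symm.trans h2a) hab
      · rcases (hTmem w2).mp hw2 with ⟨h2a, h2b⟩ | ⟨h2a, h2b⟩
        · exact absurd ((hiff.mpr h2a).symm.trans h1a) hab
        · exact ⟨by rw [h2a, h1a], by rw [h2b, h1b]⟩
    -- a nonidentity `z ∈ E` whose conjugate fixes `a` and `b`
    have key : ∀ x y : E, x ≠ y →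
        (((g * (x : H) * g⁻¹ : H) : Equiv.Perm α) a = a ↔
          ((g * (y : H) * g⁻¹ : H) : Equiv.Perm α) a = a) → g ∈ T := by
      intro x y hxy hiff
      have h1 := hsame _ _ (hconj x) (hconj y) hiff
      have e1 : (g * (x : H) * g⁻¹)⁻¹ * (g * (y : H) * g⁻¹) = g * ((x : H)⁻¹ * (y : H)) * g⁻¹ := by
        group
      rw [e1] at h1
      set z : H := (x : H)⁻¹ * (y : H) with hz
      have hzE : z ∈ E := E.mul_mem (E.inv_mem x.2) y.2
      have hz1 : (z : Equiv.Perm α) ≠ 1 := by
        intro h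
        apply hxy
        have h2 : z = 1 := Subtype.ext h
        rw [hz, inv_mul_eq_one] at h2
        exact Subtype.ext h2
      obtain ⟨hza, hzb⟩ := (hEmem z).mp hzE
      simp only [Subgroup.coe_mul, Subgroup.coe_inv, Equiv.Perm.mul_apply] at h1
      obtain ⟨h1a, h1b⟩ := h1
      -- `z` fixes `g⁻¹ a` and `g⁻¹ b`
      have hfa : (z : Equiv.Perm α) ((g : Equiv.Perm α)⁻¹ a) = (g : Equiv.Perm α)⁻¹ a := by
        rw [Equiv.Perm.eq_inv_iff_eq]; exact h1a
      have hfb : (z : Equiv.Perm α) ((g : Equiv.Perm α)⁻¹ b) = (g : Equiv.Perm α)⁻¹ b := by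
        rw [Equiv.Perm.eq_inv_iff_eq]; exact h1b
      have hga := hFix (z : Equiv.Perm α) z.2 hz1 a b _ hza hzb hfa
      have hgb := hFix (z : Equiv.Perm α) z.2 hz1 a b _ hza hzb hfb
      have hne : (g : Equiv.Perm α)⁻¹ a ≠ (g : Equiv.Perm α)⁻¹ b :=
        fun h => hab ((g : Equiv.Perm α)⁻¹.injective h)
      have hginv : g⁻¹ ∈ T := by
        rw [hTmem, Subgroup.coe_inv]
        rcases hga with h | h | h
        · exact absurd h hab
        · rcases hgb with h' | h' | h'
          · exact absurd h' hab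
          · exact absurd (h.symm.trans h') hne
          · exact Or.inl ⟨h.symm, h'.symm⟩
        · rcases hgb with h' | h' | h'
          · exact absurd h' hab
          · exact Or.inr ⟨h.symm, h'.symm⟩
          · exact absurd (h.symm.trans h') hne
      have := T.inv_mem hginv
      rwa [inv_inv] at this
    by_cases p0 : ((g * (x0 : H) * g⁻¹ : H) : Equiv.Perm α) a = a <;>
    by_cases p1 : ((g * (x1 : H) * g⁻¹ : H) : Equiv.Perm α) a = a <;>
    by_cases p2 : ((g * (x2 : H) * g⁻¹ : H) : Equiv.Perm α) a = a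
    · exact key x0 x1 h01 (iff_of_true p0 p1)
    · exact key x0 x1 h01 (iff_of_true p0 p1)
    · exact key x0 x2 h02 (iff_of_true p0 p2)
    · exact key x1 x2 h12 (iff_of_false p1 p2)
    · exact key x1 x2 h12 (iff_of_true p1 p2)
    · exact key x0 x2 h02 (iff_of_false p0 p2)
    · exact key x0 x1 h01 (iff_of_false p0 p1)
    · exact key x0 x1 h01 (iff_of_false p0 p1)
  rw [P.card_eq_index_normalizer]
  have hPN : Subgroup.normalizer (P : Set H) = Subgroup.normalizer (T : Set H) := by
    rw [← hPT]; rfl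
  rw [hPN, hNT, hTidx]

end Cfsg.Agent.H65.SN
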