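import Mathlib
import Cfsg.Agent.H87.SNZst
import Cfsg.Agent.H65.SNN2Fin

/-!
# S3641 piece N2 (helper65, with helper87's structure lemma): `n₂ = 153`
-/

set_option autoImplicit false
set_option linter.style.haveILetI false
set_option linter.unusedVariables false

namespace Cfsg.Agent.H65.SN

theorem card_sylow_two {α : Type*} [Fintype α] [DecidableEq α] (hα : Fintype.card α = 18)
    (H : Subgroup (Equiv.Perm α)) [MulAction.IsPretransitive H α] (d : ℕ)
    (hd : d = 8 ∨ d = 16) (hH : Nat.card H = 18 * 17 * d) : Nat.card (Sylow 2 H) = 153 := by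
  apply card_sylow_two_of_struct hα H d hd hH
  · intro a b c e hab hce
    obtain ⟨g1, hg1⟩ := MulAction.exists_smul_eq H a c
    obtain ⟨u, huc, hou, hreg, -⟩ := Cfsg.Agent.H87.SN.struct17 (G := H) hα d hd hH c
    have hb' : g1 • b ≠ c := by
      intro h
      apply hab
      exact MulAction.injective g1 (hg1.trans h.symm)
    obtain ⟨i, hi⟩ := (hreg (g1 • b) hb').1 e hce.symm
    have hui : (u ^ i) • c = c := by
      have h1 : u ∈ MulAction.stabilizer H c := huc
      exact pow_mem h1 i
    refine ⟨((u ^ i * g1 : H) : Equiv.Perm α), (u ^ i * g1).2, ?_, ?_⟩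
    · show (u ^ i * g1) • a = c
      rw [mul_smul, hg1, hui]
    · show (u ^ i * g1) • b = e
      rw [mul_smul]
      exact hi
  · intro g hg hg1 a b c ha hb hc
    by_contra hcon
    push Not at hcon
    exact hg1 (Cfsg.Agent.H87.SN.zst hα H d hd hH g hg a b c hcon.1 hcon.2.1 hcon.2.2 ha hb hc)

example {α : Type*} [Fintype α] [DecidableEq α] (hα : Fintype.card α = 18)
    (H : Subgroup (Equiv.Perm α)) [MulAction.IsPretransitive H α] (d : ℕ)
    (hd : d = 8 ∨ d = 16) (hH : Nat.card H = 18 * 17 * d) : Nat.card (Sylow 2 H) = 153 :=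
  card_sylow_two hα H d hd hH

end Cfsg.Agent.H65.SN
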