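import Mathlib
import Cfsg.Agent.H52.SoDefs
import Cfsg.Agent.H63.SnIfV
import Cfsg.Agent.H53.Basic

set_option autoImplicit false
set_option linter.style.haveILetI false
set_option linter.unusedVariables false

/-!
# SO-WID (helper52's team project S2943): `W_K = [V, K]`

`V = Ω₁(Z(O₂(L)))`, `K ≤ L` a `J(T)`-component with `O₂(K) ≤ O₂(L)` and `K ≰ C_L(V)`.
Every `x ∈ K` acts on the elementary abelian 2-group `V` with `x ^ 3` acting trivially, so with
`b = x v x⁻¹`, `c = x b x⁻¹` one has `[v, x] = v b = [b c, x]` and `b c = [b, x] ∈ V ∩ K ≤ Ω₁(Z(O₂(K)))`;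
hence `[V, K] ≤ W_K`.  A subgroup `[V, K]` of order 2 is impossible (its generator `v b` would be
fixed by `x`, forcing `c = v` and then `b = v`), so `[V, K] = W_K` as `|W_K| = 4`.
-/

namespace Cfsg.Agent.H65.Sn

open Cfsg Subgroup Cfsg.Agent.H52.Sn Cfsg.Agent.H63.Sn
open scoped commutatorElement

universe u

/-- For an involution `w`: `[w, x] = w * (x w x⁻¹)`. -/
theorem comm_invol {G : Type u} [Group G] (w x : G) (hw : w * w = 1) :
    ⁅w, x⁆ = w * (x * w * x⁻¹) := by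
  have hinv : w⁻¹ = w := inv_eq_of_mul_eq_one_left hw
  rw [commutatorElement_def, hinv]
  simp only [mul_assoc]

theorem wid : StWid.{u} := by
  intro G _ _ T L K M hJ hKL hF hOQ hnC
  obtain ⟨hKgen, hKJ, hO3, hSyl, hW4, hWexp⟩ := hJ
  have hVmem : ∀ {v : G}, v ∈ omegaCenterOf (pCoreOf 2 L) →
      v ∈ pCoreOf 2 L ∧ v ∈ Subgroup.centralizer (pCoreOf 2 L : Set G) ∧ v ^ 2 = 1 :=
    fun hv => mem_omegaCenterOf _ hv
  have hVL : omegaCenterOf (pCoreOf 2 L) ≤ L := fun x hx => pCoreOf_le L (hVmem hx).1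
  -- `L` normalizes `V`
  have hVn : ∀ l ∈ L, ∀ v ∈ omegaCenterOf (pCoreOf 2 L),
      l * v * l⁻¹ ∈ omegaCenterOf (pCoreOf 2 L) := by
    intro l hl v hv
    have hN := (ifV (G := G) L).1
    have h := hN.conj_mem ⟨v, hVL hv⟩ (Subgroup.mem_subgroupOf.mpr hv) ⟨l, hl⟩
    exact Subgroup.mem_subgroupOf.mp h
  -- `V` is abelian of exponent 2
  have hVc : ∀ v ∈ omegaCenterOf (pCoreOf 2 L), ∀ w ∈ omegaCenterOf (pCoreOf 2 L),
      v * w = w * v := by
    intro v hv w hw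
    exact (Subgroup.mem_centralizer_iff.mp (hVmem hw).2.1) v (hVmem hv).1
  have hV2 : ∀ v ∈ omegaCenterOf (pCoreOf 2 L), v * v = 1 := by
    intro v hv
    rw [← pow_two]
    exact (hVmem hv).2.2
  -- `O₂(K)` centralizes `V`
  have hOV : ∀ o ∈ pCoreOf 2 K, ∀ v ∈ omegaCenterOf (pCoreOf 2 L), o * v = v * o := by
    intro o ho v hv
    have hoK : o ∈ K := pCoreOf_le K ho
    have hoQ : o ∈ pCoreOf 2 L := by
      have h1 : (⟨o, hKL hoK⟩ : ↥L) ∈ pCore 2 ↥L := hOQ (Subgroup.mem_subgroupOf.mpr ho)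
      exact (mem_pCoreOf L).mpr ⟨hKL hoK, h1⟩
    exact (Subgroup.mem_centralizer_iff.mp (hVmem hv).2.1) o hoQ
  -- `V` normalizes `K`
  have hVK : ∀ v ∈ omegaCenterOf (pCoreOf 2 L), ∀ k ∈ K, v * k * v⁻¹ ∈ K := by
    intro v hv k hk
    obtain ⟨hvL, hvQ⟩ := (mem_pCoreOf L).mp (hVmem hv).1
    have hn := hF.hQK hvQ
    have h1 := (Subgroup.mem_normalizer_iff.mp hn ⟨k, hKL hk⟩).mp (Subgroup.mem_subgroupOf.mpr hk)
    exact Subgroup.mem_subgroupOf.mp h1
  -- cubes of elements of `K` lie in `O₂(K)`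
  have hcube : ∀ x ∈ K, x ^ 3 ∈ pCoreOf 2 K := by
    intro x hx
    haveI := Cfsg.Agent.H53.pCore_normal 2 ↥K
    have hidx : (pCore 2 ↥K).index = 3 := by
      rw [← hO3]
      unfold pCoreOf
      rw [Subgroup.relIndex, Subgroup.subgroupOf,
        Subgroup.comap_map_eq_self_of_injective K.subtype_injective]
    have h1 := Subgroup.pow_index_mem (pCore 2 ↥K) (⟨x, hx⟩ : ↥K)
    rw [hidx] at h1
    exact (mem_pCoreOf K).mpr ⟨pow_mem hx 3, h1⟩
  -- `V ∩ K ≤ O₂(K)`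
  have hVKO : ∀ e ∈ omegaCenterOf (pCoreOf 2 L), e ∈ K → e ∈ pCoreOf 2 K := by
    intro e heV heK
    have hNn : ((omegaCenterOf (pCoreOf 2 L) ⊓ K).subgroupOf K).Normal := by
      refine ⟨fun n hn k => ?_⟩
      rw [Subgroup.mem_subgroupOf] at hn ⊢
      obtain ⟨hn1, hn2⟩ := Subgroup.mem_inf.mp hn
      refine Subgroup.mem_inf.mpr ⟨?_, ?_⟩
      · exact hVn k (hKL k.2) n hn1
      · exact mul_mem (mul_mem k.2 hn2) (inv_mem k.2)
    have hNp : IsPGroup 2 ↥((omegaCenterOf (pCoreOf 2 L) ⊓ K).subgroupOf K) := by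
      intro g
      refine ⟨1, ?_⟩
      have hg := Subgroup.mem_subgroupOf.mp g.2
      have hg2 := (hVmem (Subgroup.mem_inf.mp hg).1).2.2
      apply Subtype.ext
      apply Subtype.ext
      simpa using hg2
    have hle : (omegaCenterOf (pCoreOf 2 L) ⊓ K).subgroupOf K ≤ pCore 2 ↥K :=
      le_sSup ⟨hNn, hNp⟩
    have h1 : (⟨e, heK⟩ : ↥K) ∈ pCore 2 ↥K :=
      hle (Subgroup.mem_subgroupOf.mpr (Subgroup.mem_inf.mpr ⟨heV, heK⟩))
    exact (mem_pCoreOf K).mpr ⟨heK, h1⟩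
  -- the orbit `v, b, c` of `x` on `V`
  have horb : ∀ v ∈ omegaCenterOf (pCoreOf 2 L), ∀ x ∈ K,
      x * (x * (x * v * x⁻¹) * x⁻¹) * x⁻¹ = v := by
    intro v hv x hx
    have h1 := hOV (x ^ 3) (hcube x hx) v hv
    have h2 : x * (x * (x * v * x⁻¹) * x⁻¹) * x⁻¹ = x ^ 3 * v * (x ^ 3)⁻¹ := by
      simp only [pow_succ, pow_zero, one_mul, mul_inv_rev, mul_assoc]
    rw [h2, h1, mul_inv_cancel_right]
  -- reduce the goal to `G`
  have hmap : (⁅(omegaCenterOf (pCoreOf 2 L)).subgroupOf L, K.subgroupOf L⁆).map L.subtype =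
      ⁅omegaCenterOf (pCoreOf 2 L), K⁆ := by
    rw [Subgroup.map_commutator, Subgroup.map_subgroupOf_eq_of_le hVL,
      Subgroup.map_subgroupOf_eq_of_le hKL]
  rw [hmap]
  -- `[V, K] ≤ W_K`
  have hle : ⁅omegaCenterOf (pCoreOf 2 L), K⁆ ≤ wOf K := by
    rw [Subgroup.commutator_le]
    intro v hv x hx
    obtain ⟨b, hb⟩ : ∃ b, b = x * v * x⁻¹ := ⟨_, rfl⟩
    obtain ⟨c, hc⟩ : ∃ c, c = x * b * x⁻¹ := ⟨_, rfl⟩
    have hbV : b ∈ omegaCenterOf (pCoreOf 2 L) := hb ▸ hVn x (hKL hx) v hv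
    have hcV : c ∈ omegaCenterOf (pCoreOf 2 L) := hc ▸ hVn x (hKL hx) b hbV
    have hxc : x * c * x⁻¹ = v := by
      rw [hc, hb]
      exact horb v hv x hx
    have hd : ⁅v, x⁆ = v * b := by rw [comm_invol v x (hV2 v hv), hb]
    have he : ⁅b, x⁆ = b * c := by rw [comm_invol b x (hV2 b hbV), hc]
    have heV : b * c ∈ omegaCenterOf (pCoreOf 2 L) := mul_mem hbV hcV
    have heK : b * c ∈ K := by
      rw [← he, commutatorElement_def]
      exact mul_mem (hVK b hbV x hx) (inv_mem hx)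
    have heO : b * c ∈ pCoreOf 2 K := hVKO _ heV heK
    have heZ : b * c ∈ omegaCenterOf (pCoreOf 2 K) := by
      refine omegaCenterOf_mem _ heO ?_ ?_
      · rw [Subgroup.mem_centralizer_iff]
        intro o ho
        exact hOV o ho _ heV
      · rw [pow_two]
        exact hV2 _ heV
    have hfin : ⁅b * c, x⁆ = ⁅v, x⁆ := by
      rw [comm_invol (b * c) x (hV2 _ heV), hd]
      have h1 : x * (b * c) * x⁻¹ = (x * b * x⁻¹) * (x * c * x⁻¹) := by group
      rw [h1, ← hc, hxc]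
      -- b * c * (c * v) = v * b
      have hcc : c * c = 1 := hV2 c hcV
      calc b * c * (c * v) = b * (c * c) * v := by simp only [mul_assoc]
        _ = b * v := by rw [hcc, mul_one]
        _ = v * b := hVc b hbV v hv
    rw [← hfin]
    exact Subgroup.commutator_mem_commutator heZ hx
  -- equality
  by_contra hne
  -- a nontrivial commutator
  have hex : ∃ x ∈ K, ∃ v ∈ omegaCenterOf (pCoreOf 2 L), v * x ≠ x * v := by
    by_contra hcon
    push Not at hcon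
    apply hnC
    intro k hk
    rw [Subgroup.mem_centralizer_iff]
    intro w hw
    have hk' : (k : G) ∈ K := Subgroup.mem_subgroupOf.mp hk
    have hw' : (w : G) ∈ omegaCenterOf (pCoreOf 2 L) := Subgroup.mem_subgroupOf.mp hw
    apply Subtype.ext
    exact hcon _ hk' _ hw'
  obtain ⟨x, hx, v, hv, hvx⟩ := hex
  obtain ⟨b, hb⟩ : ∃ b, b = x * v * x⁻¹ := ⟨_, rfl⟩
  obtain ⟨c, hc⟩ : ∃ c, c = x * b * x⁻¹ := ⟨_, rfl⟩
  have hbV : b ∈ omegaCenterOf (pCoreOf 2 L) := hb ▸ hVn x (hKL hx) v hv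
  have hcV : c ∈ omegaCenterOf (pCoreOf 2 L) := hc ▸ hVn x (hKL hx) b hbV
  have hxc : x * c * x⁻¹ = v := by
    rw [hc, hb]
    exact horb v hv x hx
  have hd : ⁅v, x⁆ = v * b := by rw [comm_invol v x (hV2 v hv), hb]
  have he : ⁅b, x⁆ = b * c := by rw [comm_invol b x (hV2 b hbV), hc]
  have hdm : v * b ∈ ⁅omegaCenterOf (pCoreOf 2 L), K⁆ := by
    rw [← hd]; exact Subgroup.commutator_mem_commutator hv hx
  have hem : b * c ∈ ⁅omegaCenterOf (pCoreOf 2 L), K⁆ := by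
    rw [← he]; exact Subgroup.commutator_mem_commutator hbV hx
  have hbv : b ≠ v := by
    intro h
    apply hvx
    rw [hb] at h
    -- x * v * x⁻¹ = v
    calc v * x = (x * v * x⁻¹) * x := by rw [h]
      _ = x * v := by group
  have hd1 : v * b ≠ 1 := by
    intro h
    apply hbv
    have h2 := hV2 v hv
    exact (mul_left_cancel (h.trans h2.symm))
  have he1 : b * c ≠ 1 := by
    intro h
    -- c = b, so x b x⁻¹ = b, so b = v
    have hcb : c = b := mul_left_cancel (h.trans (hV2 b hbV).symm)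
    apply hbv
    -- x * b * x⁻¹ = b  and b = x v x⁻¹ ⟹ x v x⁻¹ = v
    have h3 : x * b * x⁻¹ = b := by rw [← hc, hcb]
    have h4 : x * c * x⁻¹ = c := by rw [hcb]; exact h3
    rw [hxc] at h4
    rw [← hcb, ← h4]
  have hdvd : Nat.card ↥⁅omegaCenterOf (pCoreOf 2 L), K⁆ ∣ 4 := by
    rw [← hW4]; exact Subgroup.card_dvd_of_le hle
  have hne4 : Nat.card ↥⁅omegaCenterOf (pCoreOf 2 L), K⁆ ≠ 4 := by
    intro h
    exact hne (Subgroup.eq_of_le_of_card_ge hle (by rw [hW4, h]))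
  have hpos : 0 < Nat.card ↥⁅omegaCenterOf (pCoreOf 2 L), K⁆ := Nat.card_pos
  have hle4 : Nat.card ↥⁅omegaCenterOf (pCoreOf 2 L), K⁆ ≤ 4 := Nat.le_of_dvd (by norm_num) hdvd
  have hcases : Nat.card ↥⁅omegaCenterOf (pCoreOf 2 L), K⁆ = 1 ∨
      Nat.card ↥⁅omegaCenterOf (pCoreOf 2 L), K⁆ = 2 := by
    obtain ⟨n, hn⟩ : ∃ n, n = Nat.card ↥⁅omegaCenterOf (pCoreOf 2 L), K⁆ := ⟨_, rfl⟩
    rw [← hn] at hdvd hne4 hpos hle4 ⊢
    interval_cases n
    · exact Or.inl rfl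
    · exact Or.inr rfl
    · exact absurd hdvd (by norm_num)
    · exact absurd rfl hne4
  rcases hcases with h1 | h2
  · rw [Subgroup.card_eq_one] at h1
    rw [h1, Subgroup.mem_bot] at hdm
    exact hd1 hdm
  · obtain ⟨y, hy, huniq⟩ := (Nat.card_eq_two_iff' (1 : ↥⁅omegaCenterOf (pCoreOf 2 L), K⁆)).mp h2
    have e1 := huniq ⟨v * b, hdm⟩ (fun h => hd1 (congrArg Subtype.val h))
    have e2 := huniq ⟨b * c, hem⟩ (fun h => he1 (congrArg Subtype.val h))
    have e3 : v * b = b * c := by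
      have := e1.trans e2.symm
      exact congrArg Subtype.val this
    -- c = v
    have hcv : c = v := by
      rw [hVc v hv b hbV] at e3
      exact (mul_left_cancel e3).symm
    -- then x v x⁻¹ = v
    apply hbv
    rw [hcv] at hxc
    rw [hb]
    exact hxc

end Cfsg.Agent.H65.Sn

universe u in
example : Cfsg.Agent.H52.Sn.StWid.{u} := Cfsg.Agent.H65.Sn.wid
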