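import Mathlib
import Cfsg.Agent.H66.SpDefs
import Cfsg.Agent.H5.SoAbs

set_option autoImplicit false
set_option linter.style.haveILetI false
set_option linter.unusedVariables false

/-!
# SP-KCN (helper66's team project S2944): `K C` is normal when `[V, K]` is normal

Apply UNIQ to `K₁ = K ^ n`, `K₂ = K`: both lie in `M` and are generated by elements of odd order,
which commute modulo `C`; `[V, K ^ n] = [V, K] ^ n = [V, K]`.
-/

namespace Cfsg.Agent.H65.Sp

open Cfsg Subgroup Cfsg.Agent.H52.Sn Cfsg.Agent.H66.Sp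
open scoped commutatorElement

universe u

/-- a normal subgroup is fixed by conjugation (in the `toMonoidHom` form). -/
theorem map_conj_normal {X : Type u} [Group X] (N : Subgroup X) (hN : N.Normal) (n : X) :
    N.map (MulAut.conj n).toMonoidHom = N := by
  apply le_antisymm
  · rintro x ⟨v, hv, rfl⟩
    exact hN.conj_mem v hv n
  · intro x hx
    refine ⟨n⁻¹ * x * n, ?_, ?_⟩
    · have := hN.conj_mem x hx n⁻¹
      simpa using this
    · show n * (n⁻¹ * x * n) * n⁻¹ = x
      group

theorem kcn (hU : Cfsg.Agent.H52.Sn.StUniq.{u}) : StKCN.{u} := by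
  intro X _ _ V T Q M J K O _ hV F hOQ h4 hWn n
  have hCn : (Subgroup.centralizer (V : Set X)).Normal := F.hC
  have hMn : M.Normal := F.hM
  have hVn : V.Normal := inferInstance
  obtain ⟨c, hc⟩ : ∃ c : X →* X, c = (MulAut.conj n).toMonoidHom := ⟨_, rfl⟩
  have hcapp : ∀ x, c x = n * x * n⁻¹ := by intro x; rw [hc]; rfl
  have hcinj : Function.Injective c := by rw [hc]; exact (MulAut.conj n).injective
  rw [← hc]
  have hO1 : O.map c ≤ K.map c := Subgroup.map_mono F.hOK
  have hO1C : O.map c ≤ Subgroup.centralizer (V : Set X) := by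
    rintro x ⟨o, ho, rfl⟩
    rw [hcapp]
    exact hCn.conj_mem o (F.hQC (hOQ ho)) n
  have hrel : (O.map c).relIndex (K.map c) = 3 := by
    rw [Subgroup.relIndex_map_map_of_injective O K hcinj]; exact F.hO3
  have hKM : K ≤ M := by
    rw [← F.hKJ]
    exact (Subgroup.commutator_mono le_rfl F.hJM).trans (Subgroup.commutator_le_right K M)
  have hKK : ⁅K.map c, K⁆ ≤ Subgroup.centralizer (V : Set X) := by
    have h1 := Cfsg.Agent.H5.Sn.commutator_closure_le (Subgroup.centralizer (V : Set X))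
      (c '' {g : X | g ∈ K ∧ Odd (orderOf g)}) {g : X | g ∈ K ∧ Odd (orderOf g)}
      (by
        rintro x ⟨x₀, hx₀, rfl⟩ y hy
        have hxM : c x₀ ∈ M := by rw [hcapp]; exact hMn.conj_mem x₀ (hKM hx₀.1) n
        have hxo : Odd (orderOf (c x₀)) := by
          have : orderOf (c x₀) = orderOf x₀ := orderOf_injective c hcinj x₀
          rw [this]; exact hx₀.2
        exact F.hcomm (c x₀) hxM y (hKM hy.1) hxo hy.2)
    rw [← MonoidHom.map_closure, F.hKgen] at h1
    exact h1
  have hVK : ⁅V, K.map c⁆ = ⁅V, K⁆ := by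
    have h1 : V.map c = V := by rw [hc]; exact map_conj_normal V hVn n
    have h2 : (⁅V, K⁆).map c = ⁅V, K⁆ := by rw [hc]; exact map_conj_normal _ hWn n
    have h3 := Subgroup.map_commutator V K c
    rw [h1, h2] at h3
    exact h3.symm
  have h41 : Nat.card ↥⁅V, K.map c⁆ = 4 := by rw [hVK]; exact h4
  have hne : ⁅V, K.map c⁆ ⊓ ⁅V, K⁆ ≠ ⊥ := by
    rw [hVK, inf_idem]
    intro h
    rw [h, Subgroup.card_bot] at h4
    norm_num at h4
  exact hU V (K.map c) K (O.map c) O hV hO1 hO1C hrel F.hOK (hOQ.trans F.hQC) F.hO3 hKK h41 h4 hne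

end Cfsg.Agent.H65.Sp

universe u in
example (hU : Cfsg.Agent.H52.Sn.StUniq.{u}) : Cfsg.Agent.H66.Sp.StKCN.{u} :=
  Cfsg.Agent.H65.Sp.kcn hU
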