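import Mathlib
import Cfsg.Agent.H66.SpDefs

set_option autoImplicit false
set_option linter.style.haveILetI false
set_option linter.unusedVariables false
set_option maxHeartbeats 400000

/-!
# SP-KQN (helper66's team project S2944): conjugates of `K` lie in `K Q`

Bars denote images in `X ⧸ Q`.  `K̄` has order 3.  For `k ∈ K` of odd order outside `Q` and
`n ∈ X` write `n k n⁻¹ = k' c` (`k' ∈ K`, `c ∈ C`), `a = k̄'`, `z = c̄`, `w = a z`.  Some `j ∈ J`
inverts `K̄` and centralizes `C̄`; `n j n⁻¹` inverts `w` and centralizes `C̄`.  Hence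
`d = (n j n⁻¹)⁻¹ j ∈ M` satisfies `d̄ w d̄⁻¹ = w z²`, `d̄ z d̄⁻¹ = z`, so `d̄ ^ i w d̄ ^ (-i) = w z ^ (2 i)`.
The odd part `d ^ (2 ^ s)` of `d` commutes with `n k n⁻¹` modulo `Q`, so `z ^ (2 ^ (s + 1)) = 1`;
as `z ^ 3 = 1`, `z = 1`, i.e. `c ∈ Q`.
-/

namespace Cfsg.Agent.H65.Sp

open Cfsg Subgroup Cfsg.Agent.H52.Sn Cfsg.Agent.H66.Sp
open scoped commutatorElement

universe u

/-- quotient computation: the conjugation formula. -/
theorem quot_step {Y : Type u} [Group Y] (a z b g y : Y)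
    (q1 : a * z = g * b * g⁻¹) (q4 : a * z = z * a) (q5 : y * z = z * y)
    (q6a : y * a * y⁻¹ = a⁻¹) (q6 : y * b * y⁻¹ = b⁻¹)
    (q8 : (g * y * g⁻¹) * z = z * (g * y * g⁻¹)) :
    ((g * y * g⁻¹)⁻¹ * y) * (a * z) * ((g * y * g⁻¹)⁻¹ * y)⁻¹ = (a * z) * z ^ 2 ∧
    ((g * y * g⁻¹)⁻¹ * y) * z = z * ((g * y * g⁻¹)⁻¹ * y) := by
  obtain ⟨y₂, hy₂⟩ : ∃ y₂, y₂ = g * y * g⁻¹ := ⟨_, rfl⟩
  obtain ⟨w, hw⟩ : ∃ w, w = a * z := ⟨_, rfl⟩
  rw [← hy₂] at q8 ⊢
  rw [← hw] at q1 ⊢
  -- (A) y₂ inverts w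
  have hA : y₂ * w * y₂⁻¹ = w⁻¹ := by
    rw [hy₂, q1]
    have h1 : g * y * g⁻¹ * (g * b * g⁻¹) * (g * y * g⁻¹)⁻¹ = g * (y * b * y⁻¹) * g⁻¹ := by group
    rw [h1, q6]
    group
  have hA' : y₂⁻¹ * w⁻¹ * y₂ = w := by
    rw [← hA]; group
  -- y₂ and z commute
  have hz2 : y₂⁻¹ * z * y₂ = z := by
    have : z * y₂ = y₂ * z := q8.symm
    rw [mul_assoc, this, ← mul_assoc, inv_mul_cancel, one_mul]
  -- (B)
  have hB : y * w * y⁻¹ = a⁻¹ * z := by
    rw [hw]
    have h1 : y * (a * z) * y⁻¹ = (y * a * y⁻¹) * (y * z * y⁻¹) := by group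
    have h2 : y * z * y⁻¹ = z := by rw [q5, mul_assoc, mul_inv_cancel, mul_one]
    rw [h1, q6a, h2]
  have hC : a⁻¹ * z = w⁻¹ * z ^ 2 := by
    rw [hw, mul_inv_rev, pow_two]
    have h3 : z⁻¹ * a⁻¹ = a⁻¹ * z⁻¹ := by
      rw [← mul_inv_rev, ← mul_inv_rev, q4]
    rw [h3]
    group
  constructor
  · have h1 : (y₂⁻¹ * y) * w * (y₂⁻¹ * y)⁻¹ = y₂⁻¹ * (y * w * y⁻¹) * y₂ := by group
    rw [h1, hB, hC]
    have h2 : y₂⁻¹ * (w⁻¹ * z ^ 2) * y₂ = (y₂⁻¹ * w⁻¹ * y₂) * (y₂⁻¹ * z * y₂) ^ 2 := by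
      rw [pow_two, pow_two]; group
    rw [h2, hA', hz2]
  · have h1 : y₂⁻¹ * y * z = y₂⁻¹ * (y * z) := by group
    rw [h1, q5]
    have h2 : y₂⁻¹ * (z * y) = (y₂⁻¹ * z * y₂) * (y₂⁻¹ * y) := by group
    rw [h2, hz2]

/-- iterating the conjugation formula. -/
theorem quot_iter {Y : Type u} [Group Y] (δ w z : Y) (h1 : δ * w * δ⁻¹ = w * z ^ 2)
    (h2 : δ * z = z * δ) (i : ℕ) : δ ^ i * w * (δ ^ i)⁻¹ = w * z ^ (2 * i) := by
  induction i with
  | zero => simp
  | succ i ih =>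
    have hc : Commute δ (z ^ (2 * i)) := (show Commute δ z from h2).pow_right _
    have e1 : δ ^ (i + 1) * w * (δ ^ (i + 1))⁻¹ = δ * (δ ^ i * w * (δ ^ i)⁻¹) * δ⁻¹ := by
      rw [pow_succ']; group
    rw [e1, ih]
    have e2 : δ * (w * z ^ (2 * i)) * δ⁻¹ = (δ * w * δ⁻¹) * (δ * z ^ (2 * i) * δ⁻¹) := by group
    have e3 : δ * z ^ (2 * i) * δ⁻¹ = z ^ (2 * i) := by
      rw [hc.eq, mul_assoc, mul_inv_cancel, mul_one]
    rw [e2, h1, e3, mul_assoc, ← pow_add]
    congr 2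
    ring

theorem kqn : StKQN.{u} := by
  intro X _ _ C Q M J K O hC hQ hM hQ2 hQC hCJ hJM hodd hKgen hKJ hOK hOQ hO3 hKC hKCQ hn n
  haveI := hQ
  haveI := hC
  haveI := hM
  obtain ⟨π, hπdef⟩ : ∃ π : X →* X ⧸ Q, π = QuotientGroup.mk' Q := ⟨_, rfl⟩
  have hπ1 : ∀ x, π x = 1 ↔ x ∈ Q := by
    intro x; rw [hπdef]; exact QuotientGroup.eq_one_iff x
  have hπcomm : ∀ x y : X, ⁅x, y⁆ ∈ Q → π x * π y = π y * π x := by
    intro x y h
    have h1 := (hπ1 _).mpr h
    rw [commutatorElement_def, map_mul, map_mul, map_mul, map_inv, map_inv] at h1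
    have h2 : π x * π y = (π x * π y * (π x)⁻¹ * (π y)⁻¹) * (π y * π x) := by group
    rw [h2, h1, one_mul]
  -- F1
  have hKM : K ≤ M := by
    rw [← hKJ]
    exact (Subgroup.commutator_mono le_rfl hJM).trans (Subgroup.commutator_le_right K M)
  -- F2
  have hidx : Q.relIndex K ∣ 3 := by
    rw [← hO3]; exact Subgroup.relIndex_dvd_of_le_left K hOQ
  have hcube : ∀ k ∈ K, k ^ 3 ∈ Q := by
    intro k hk
    have h1 := Subgroup.pow_index_mem (Q.subgroupOf K) (⟨k, hk⟩ : ↥K)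
    have h2 : k ^ (Q.relIndex K) ∈ Q := by
      have h1' := Subgroup.mem_subgroupOf.mp h1
      exact h1'
    obtain ⟨m, hm⟩ := hidx
    rw [hm, pow_mul]
    exact pow_mem h2 m
  have hπcube : ∀ k ∈ K, π k ^ 3 = 1 := by
    intro k hk
    rw [← map_pow]
    exact (hπ1 _).mpr (hcube k hk)
  -- F3
  have hJK : ∀ j ∈ J, ∀ k ∈ K, j * k * j⁻¹ ∈ K := by
    intro j hj k hk
    have h1 : ⁅j, k⁆ ∈ K := by
      have h2 : ⁅k, j⁆ ∈ ⁅K, J⁆ := Subgroup.commutator_mem_commutator hk hj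
      rw [hKJ] at h2
      rw [← commutatorElement_inv]
      exact inv_mem h2
    have h3 : j * k * j⁻¹ = ⁅j, k⁆ * k := by rw [commutatorElement_def]; group
    rw [h3]
    exact mul_mem h1 hk
  -- F4, F5
  have hKCc : ∀ k ∈ K, ∀ c ∈ C, π k * π c = π c * π k := fun k hk c hc =>
    hπcomm k c (hKCQ (Subgroup.commutator_mem_commutator hk hc))
  have hCJc : ∀ c ∈ C, ∀ j ∈ J, π c * π j = π j * π c := fun c hc j hj =>
    hπcomm c j (hCJ (Subgroup.commutator_mem_commutator hc hj))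
  -- F6
  have hthree : ∀ k ∈ K, k ∉ Q → ∀ k' ∈ K, π k' = 1 ∨ π k' = π k ∨ π k' = (π k)⁻¹ := by
    intro k hk hkQ k' hk'
    classical
    haveI : Fact (Nat.Prime 3) := ⟨Nat.prime_three⟩
    have hidx3 : (Q.subgroupOf K).index = 3 := by
      rcases (Nat.Prime.eq_one_or_self_of_dvd Nat.prime_three _ hidx) with h1 | h3
      · exfalso
        have h2 : (Q.subgroupOf K).index = 1 := h1
        rw [Subgroup.index_eq_one, Subgroup.subgroupOf_eq_top] at h2
        exact hkQ (h2 hk)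
      · exact h3
    have hcard : Nat.card (↥K ⧸ Q.subgroupOf K) = 3 := by
      rw [← Subgroup.index_eq_card, hidx3]
    obtain ⟨a, ha⟩ : ∃ a : ↥K ⧸ Q.subgroupOf K, a = QuotientGroup.mk ⟨k, hk⟩ := ⟨_, rfl⟩
    have ha1 : a ≠ 1 := by
      rw [ha]
      intro h
      rw [QuotientGroup.eq_one_iff, Subgroup.mem_subgroupOf] at h
      exact hkQ h
    have htop := zpowers_eq_top_of_prime_card hcard ha1
    have ha3 : a ^ 3 = 1 := by
      have := pow_card_eq_one' (G := ↥K ⧸ Q.subgroupOf K) (x := a)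
      rwa [hcard] at this
    have hord : orderOf a = 3 := orderOf_eq_prime ha3 ha1
    have hb : (QuotientGroup.mk ⟨k', hk'⟩ : ↥K ⧸ Q.subgroupOf K) ∈ Subgroup.zpowers a := by
      rw [htop]; exact Subgroup.mem_top _
    have hfin : IsOfFinOrder a := isOfFinOrder_of_finite a
    rw [← mem_powers_iff_mem_zpowers, hfin.mem_powers_iff_mem_range_orderOf, hord] at hb
    obtain ⟨m, hm, hmb⟩ := Finset.mem_image.mp hb
    rw [Finset.mem_range] at hm
    have hmb' : a ^ m = QuotientGroup.mk ⟨k', hk'⟩ := hmb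
    interval_cases m
    · left
      rw [pow_zero] at hmb'
      have h := hmb'.symm
      rw [QuotientGroup.eq_one_iff, Subgroup.mem_subgroupOf] at h
      exact (hπ1 _).mpr h
    · right; left
      rw [pow_one, ha] at hmb'
      have h := QuotientGroup.eq.mp hmb'
      rw [Subgroup.mem_subgroupOf] at h
      have h' : k⁻¹ * k' ∈ Q := by simpa using h
      have h2 := (hπ1 _).mpr h'
      rw [map_mul, map_inv] at h2
      exact (inv_mul_eq_one.mp h2).symm
    · right; right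
      rw [ha, ← QuotientGroup.mk_pow] at hmb'
      have h := QuotientGroup.eq.mp hmb'
      rw [Subgroup.mem_subgroupOf] at h
      have h' : (k ^ 2)⁻¹ * k' ∈ Q := by simpa using h
      have h2 := (hπ1 _).mpr h'
      rw [map_mul, map_inv, map_pow] at h2
      have h3 : π k' = π k ^ 2 := (inv_mul_eq_one.mp h2).symm
      rw [h3]
      have h4 := hπcube k hk
      have h5 : π k ^ 2 * π k = 1 := by rw [← pow_succ]; exact h4
      exact eq_inv_of_mul_eq_one_left h5
  -- F7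
  have hinvert : ∀ k ∈ K, k ∉ Q → ∃ j ∈ J, π j * π k * (π j)⁻¹ = (π k)⁻¹ := by
    intro k hk hkQ
    by_contra hcon
    push Not at hcon
    have hfix : ∀ j ∈ J, π j * π k = π k * π j := by
      intro j hj
      have h1 := hthree k hk hkQ (j * k * j⁻¹) (hJK j hj k hk)
      rw [map_mul, map_mul, map_inv] at h1
      rcases h1 with h1 | h1 | h1
      · exfalso
        apply hkQ
        apply (hπ1 k).mp
        have : π k = (π j)⁻¹ * (π j * π k * (π j)⁻¹) * π j := by group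
        rw [this, h1]; group
      · have : π j * π k = (π j * π k * (π j)⁻¹) * π j := by group
        rw [this, h1]
      · exact absurd h1 (hcon j hj)
    apply hKC
    have hKQ : K ≤ Q := by
      rw [← hKJ, Subgroup.commutator_le]
      intro k' hk' j hj
      apply (hπ1 _).mp
      rw [commutatorElement_def, map_mul, map_mul, map_mul, map_inv, map_inv]
      have hc : π k' * π j = π j * π k' := by
        rcases hthree k hk hkQ k' hk' with h | h | h
        · rw [h, one_mul, mul_one]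
        · rw [h]; exact (hfix j hj).symm
        · rw [h]
          have h2 := hfix j hj
          have : (π k)⁻¹ * π j = (π k)⁻¹ * (π j * π k) * (π k)⁻¹ := by group
          rw [this, h2]; group
      rw [hc]; group
    exact hKQ.trans hQC
  -- main claim for odd-order elements
  have hmain : ∀ k ∈ K, Odd (orderOf k) → n * k * n⁻¹ ∈ K ⊔ Q := by
    intro k hk hko
    by_cases hkQ : k ∈ Q
    · exact Subgroup.mem_sup_right (hQ.conj_mem k hkQ n)
    obtain ⟨j, hj, hjinv⟩ := hinvert k hk hkQ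
    have hk2mem : n * k * n⁻¹ ∈ K ⊔ C := by
      rw [← hn n]
      exact Subgroup.mem_sup_left ⟨k, hk, rfl⟩
    have hk2set : n * k * n⁻¹ ∈ ((K ⊔ C : Subgroup X) : Set X) := hk2mem
    rw [Subgroup.mul_normal K C] at hk2set
    obtain ⟨k', hk', c, hc, hkc⟩ := Set.mem_mul.mp hk2set
    have hk' : k' ∈ K := hk'
    have hc : c ∈ C := hc
    -- quotient facts
    have q1 : π k' * π c = π n * π k * (π n)⁻¹ := by
      rw [← map_mul, hkc, map_mul, map_mul, map_inv]
    have q4 : π k' * π c = π c * π k' := hKCc k' hk' c hc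
    have q5 : π j * π c = π c * π j := (hCJc c hc j hj).symm
    have q6a : π j * π k' * (π j)⁻¹ = (π k')⁻¹ := by
      rcases hthree k hk hkQ k' hk' with h | h | h
      · rw [h]; group
      · rw [h]; exact hjinv
      · rw [h, inv_inv]
        have : π j * (π k)⁻¹ * (π j)⁻¹ = (π j * π k * (π j)⁻¹)⁻¹ := by group
        rw [this, hjinv, inv_inv]
    have q8 : (π n * π j * (π n)⁻¹) * π c = π c * (π n * π j * (π n)⁻¹) := by
      have hc' : n⁻¹ * c * n ∈ C := by
        have := hC.conj_mem c hc n⁻¹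
        simpa using this
      have h1 := (hCJc _ hc' j hj)
      rw [map_mul, map_mul, map_inv] at h1
      -- (g⁻¹ z g) y = y (g⁻¹ z g)
      have e1 : (π n * π j * (π n)⁻¹) * π c = π n * (π j * ((π n)⁻¹ * π c * π n)) * (π n)⁻¹ := by
        group
      have e2 : π c * (π n * π j * (π n)⁻¹) = π n * (((π n)⁻¹ * π c * π n) * π j) * (π n)⁻¹ := by
        group
      rw [e1, e2, h1]
    obtain ⟨hs1, hs2⟩ := quot_step (π k') (π c) (π k) (π n) (π j) q1 q4 q5 q6a hjinv q8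
    -- the element d
    obtain ⟨d, hd⟩ : ∃ d, d = (n * j * n⁻¹)⁻¹ * j := ⟨_, rfl⟩
    have hdM : d ∈ M := by
      rw [hd]
      exact mul_mem (inv_mem (hM.conj_mem j (hJM hj) n)) (hJM hj)
    have hπd : π d = (π n * π j * (π n)⁻¹)⁻¹ * π j := by
      rw [hd, map_mul, map_inv, map_mul, map_mul, map_inv]
    rw [← hπd] at hs1 hs2
    obtain ⟨s, r, hr, hsr⟩ := Nat.exists_eq_two_pow_mul_odd (orderOf_pos d).ne'
    have hd'odd : Odd (orderOf (d ^ 2 ^ s)) := by
      have h1 : (d ^ 2 ^ s) ^ r = 1 := by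
        rw [← pow_mul, ← hsr]; exact pow_orderOf_eq_one d
      exact Odd.of_dvd_nat hr (orderOf_dvd_of_pow_eq_one h1)
    have hk2odd : Odd (orderOf (n * k * n⁻¹)) := by
      have : orderOf (n * k * n⁻¹) = orderOf k := (MulAut.conj n).orderOf_eq k
      rw [this]; exact hko
    have hk2M : n * k * n⁻¹ ∈ M := hM.conj_mem k (hKM hk) n
    have hq := hodd (d ^ 2 ^ s) (pow_mem hdM _) (n * k * n⁻¹) hk2M hd'odd hk2odd
    rw [← hkc] at hq
    have hq' := (hπ1 _).mpr hq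
    simp only [map_mul, map_inv, map_pow] at hq'
    have hiter := quot_iter (π d) (π k' * π c) (π c) hs1 hs2 (2 ^ s)
    -- z ^ (2 * 2 ^ s) = 1
    have hz2 : π c ^ (2 * 2 ^ s) = 1 := by
      have h1 : π d ^ 2 ^ s * (π k' * π c) * (π d ^ 2 ^ s)⁻¹ = π k' * π c :=
        mul_inv_eq_one.mp hq'
      rw [h1] at hiter
      exact (mul_eq_left.mp hiter.symm)
    -- z ^ 3 = 1
    have hz3 : π c ^ 3 = 1 := by
      have h1 : π c = (π k')⁻¹ * (π k' * π c) := by group
      have hcomm : Commute (π k')⁻¹ (π k' * π c) := by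
        have : Commute (π k') (π k' * π c) := by
          show π k' * (π k' * π c) = π k' * π c * π k'
          rw [mul_assoc, q4]
        exact this.inv_left
      rw [h1, hcomm.mul_pow, inv_pow, hπcube k' hk', inv_one, one_mul, q1]
      have h2 : (π n * π k * (π n)⁻¹) ^ 3 = π n * (π k) ^ 3 * (π n)⁻¹ := by
        rw [conj_pow]
      rw [h2, hπcube k hk]; group
    -- z = 1
    have hz1 : π c = 1 := by
      have h1 : orderOf (π c) ∣ 3 := orderOf_dvd_of_pow_eq_one hz3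
      have h2 : orderOf (π c) ∣ 2 * 2 ^ s := orderOf_dvd_of_pow_eq_one hz2
      have hcop : Nat.Coprime 3 (2 * 2 ^ s) := by
        rw [← pow_succ']
        exact Nat.Coprime.pow_right _ (by norm_num)
      have h3 : orderOf (π c) ∣ 1 := by
        have := Nat.dvd_gcd h1 h2
        rwa [hcop] at this
      exact orderOf_eq_one_iff.mp (Nat.dvd_one.mp h3)
    have hcQ : c ∈ Q := (hπ1 c).mp hz1
    rw [← hkc]
    exact mul_mem (Subgroup.mem_sup_left hk') (Subgroup.mem_sup_right hcQ)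
  -- conclusion
  rintro x ⟨k, hk, rfl⟩
  show n * k * n⁻¹ ∈ K ⊔ Q
  have hk' : k ∈ Subgroup.closure {g : X | g ∈ K ∧ Odd (orderOf g)} := by rw [hKgen]; exact hk
  induction hk' using Subgroup.closure_induction with
  | mem y hy => exact hmain y hy.1 hy.2
  | one => simp
  | mul a b _ _ ha hb =>
    have : n * (a * b) * n⁻¹ = (n * a * n⁻¹) * (n * b * n⁻¹) := by group
    rw [this]
    exact mul_mem (ha (by rw [← hKgen]; assumption)) (hb (by rw [← hKgen]; assumption))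
  | inv a _ ha =>
    have : n * a⁻¹ * n⁻¹ = (n * a * n⁻¹)⁻¹ := by group
    rw [this]
    exact inv_mem (ha (by rw [← hKgen]; assumption))

end Cfsg.Agent.H65.Sp

universe u in
example : Cfsg.Agent.H66.Sp.StKQN.{u} := Cfsg.Agent.H65.Sp.kqn
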