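import Mathlib
import Cfsg.Agent.H17.TgDefs

/-!
# S1904 piece TG-QEX1 (helper65, parallel take)

If some element outside `B` centralizes `Ω₂(B)`, some element outside `B` centralizes all squares
of `B`.  Only `StSq` is used.
-/

set_option autoImplicit false
set_option linter.style.haveILetI false
set_option linter.unusedVariables false

namespace Cfsg.Agent.H65.Tg

open Cfsg.Agent.H17.Tg

universe u

/-- the computation: `y` centralizes `Ω_j(B)`, `j ≥ 2`, `b ∈ Ω_{j+2}(B)`, `c = b⁻¹ y b y⁻¹` -/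
theorem qex1_step {X : Type u} [Group X] (B : Subgroup X) (hBn : B.Normal)
    (hBab : ∀ a ∈ B, ∀ b ∈ B, a * b = b * a) (j : ℕ) (hj : 2 ≤ j) (y : X)
    (hy : ∀ b ∈ B, b ^ 2 ^ j = 1 → y * b = b * y) (b : X) (hb : b ∈ B)
    (hbp : b ^ 2 ^ (j + 2) = 1) :
    ∃ c ∈ B, y ^ 2 * b = b * c ^ 2 * y ^ 2 ∧ y * b ^ 2 = b ^ 2 * c ^ 2 * y ∧
      y ^ 2 * b ^ 2 = b ^ 2 * y ^ 2 := by
  obtain ⟨c, hc⟩ : ∃ c : X, c = b⁻¹ * (y * b * y⁻¹) := ⟨_, rfl⟩
  have hybB : y * b * y⁻¹ ∈ B := hBn.conj_mem b hb y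
  have hcB : c ∈ B := by rw [hc]; exact B.mul_mem (B.inv_mem hb) hybB
  have hyb : y * b = b * c * y := by rw [hc]; group
  have hb4 : y * b ^ 4 = b ^ 4 * y := by
    apply hy _ (B.pow_mem hb 4)
    rw [← pow_mul, ← hbp]
    congr 1
    rw [pow_add]; ring
  have hc4 : c ^ 4 = 1 := by
    have h1 : Commute b⁻¹ (y * b * y⁻¹) := hBab _ (B.inv_mem hb) _ hybB
    rw [hc, h1.mul_pow, conj_pow, inv_pow]
    have h2 : y * b ^ 4 * y⁻¹ = b ^ 4 := by rw [hb4]; group
    rw [h2, inv_mul_cancel]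
  have hyc : y * c = c * y := by
    apply hy c hcB
    obtain ⟨i, rfl⟩ : ∃ i, j = i + 2 := ⟨j - 2, by omega⟩
    have h1 : (2 : ℕ) ^ (i + 2) = 4 * 2 ^ i := by rw [pow_add]; ring
    rw [h1, pow_mul, hc4, one_pow]
  have hbc : b * c = c * b := hBab b hb c hcB
  have h5 : y ^ 2 * b = b * c ^ 2 * y ^ 2 := by
    calc y ^ 2 * b = y * (y * b) := by simp only [pow_two, mul_assoc]
      _ = y * (b * c * y) := by rw [hyb]
      _ = (y * b) * (c * y) := by simp only [mul_assoc]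
      _ = (b * c * y) * (c * y) := by rw [hyb]
      _ = b * c * (y * c) * y := by simp only [mul_assoc]
      _ = b * c * (c * y) * y := by rw [hyc]
      _ = b * c ^ 2 * y ^ 2 := by simp only [pow_two, mul_assoc]
  have h6 : y * b ^ 2 = b ^ 2 * c ^ 2 * y := by
    calc y * b ^ 2 = (y * b) * b := by simp only [pow_two, mul_assoc]
      _ = (b * c * y) * b := by rw [hyb]
      _ = b * c * (y * b) := by simp only [mul_assoc]
      _ = b * c * (b * c * y) := by rw [hyb]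
      _ = b * (c * b) * (c * y) := by simp only [mul_assoc]
      _ = b * (b * c) * (c * y) := by rw [hbc]
      _ = b ^ 2 * c ^ 2 * y := by simp only [pow_two, mul_assoc]
  refine ⟨c, hcB, h5, h6, ?_⟩
  have hc2 : c ^ 2 * c ^ 2 = 1 := by rw [← pow_add]; exact hc4
  have hbc2 : c ^ 2 * b = b * c ^ 2 := (hBab _ (B.pow_mem hcB 2) b hb)
  calc y ^ 2 * b ^ 2 = (y ^ 2 * b) * b := by rw [pow_two b, mul_assoc]
    _ = (b * c ^ 2 * y ^ 2) * b := by rw [h5]
    _ = b * c ^ 2 * (y ^ 2 * b) := by rw [mul_assoc]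
    _ = b * c ^ 2 * (b * c ^ 2 * y ^ 2) := by rw [h5]
    _ = b * (c ^ 2 * b) * (c ^ 2 * y ^ 2) := by simp only [mul_assoc]
    _ = b * (b * c ^ 2) * (c ^ 2 * y ^ 2) := by rw [hbc2]
    _ = b * b * (c ^ 2 * c ^ 2) * y ^ 2 := by simp only [mul_assoc]
    _ = b ^ 2 * y ^ 2 := by rw [hc2, mul_one, ← pow_two]

theorem qex1 (hSq : StSq.{u}) : StQex1.{u} := by
  intro X _ _ A hyp B hB hBZ hB4 hY
  obtain ⟨⟨hBn, hBinv, hBab⟩, -⟩ := hB
  have hNAI : NAI A B := ⟨hBn, hBinv, hBab⟩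
  -- a bound for the exponent
  obtain ⟨M, hM⟩ := IsPGroup.iff_card.mp hyp.pgrp
  have hpowM : ∀ x : X, x ^ 2 ^ M = 1 := by
    intro x
    rw [← hM]
    exact pow_card_eq_one'
  have main : ∀ k j : ℕ, 2 ≤ j → M ≤ j + k → ∀ y : X, y ∉ B →
      (∀ b ∈ B, b ^ 2 ^ j = 1 → y * b = b * y) →
      ∃ q : X, q ∉ B ∧ ∀ b ∈ B, q * b ^ 2 = b ^ 2 * q := by
    intro k
    induction k with
    | zero =>
      intro j hj hMj y hyB hy
      refine ⟨y, hyB, fun b hb => hy _ (B.pow_mem hb 2) ?_⟩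
      obtain ⟨i, rfl⟩ : ∃ i, j = M + i := ⟨j - M, by omega⟩
      rw [pow_add, pow_mul, hpowM, one_pow]
    | succ k ih =>
      intro j hj hMj y hyB hy
      by_cases hc : ∀ b ∈ B, b ^ 2 ^ (j + 1) = 1 → y * b = b * y
      · exact ih (j + 1) (by omega) (by omega) y hyB hc
      · push Not at hc
        obtain ⟨b', hb'B, hb'pow, hb'ne⟩ := hc
        by_cases hex : ∃ b₀ ∈ B, b₀ ^ 2 ^ (j + 1) ≠ 1
        · obtain ⟨b₀, hb₀B, hb₀⟩ := hex
          have sq := hSq X A hyp B hNAI hBZ (j + 1) b₀ hb₀B hb₀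
          have hpow2 : ∀ b : X, (b ^ 2) ^ 2 ^ (j + 1) = 1 → b ^ 2 ^ (j + 2) = 1 := by
            intro b h
            rw [← h, ← pow_mul]
            congr 1
            rw [pow_succ]; ring
          apply ih (j + 1) (by omega) (by omega) (y ^ 2)
          · -- `y² ∉ B`
            intro hy2B
            obtain ⟨b, hbB, hb2⟩ := sq b' hb'B hb'pow
            have hbp : b ^ 2 ^ (j + 2) = 1 := hpow2 b (by rw [hb2]; exact hb'pow)
            obtain ⟨c, hcB, h5, h6, -⟩ := qex1_step B hBn hBab j hj y hy b hbB hbp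
            have hcomm : y ^ 2 * b = b * y ^ 2 := hBab _ hy2B b hbB
            have hc2 : c ^ 2 = 1 := by
              rw [hcomm] at h5
              have h7 : b * y ^ 2 = b * (c ^ 2 * y ^ 2) := by rw [h5, mul_assoc]
              have h8 := mul_left_cancel h7
              exact (mul_eq_right.mp h8.symm)
            apply hb'ne
            rw [← hb2, h6, hc2, mul_one]
          · -- `y²` centralizes `Ω_{j+1}(B)`
            intro d hdB hdpow
            obtain ⟨b, hbB, hb2⟩ := sq d hdB hdpow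
            have hbp : b ^ 2 ^ (j + 2) = 1 := hpow2 b (by rw [hb2]; exact hdpow)
            obtain ⟨c, hcB, -, -, h7⟩ := qex1_step B hBn hBab j hj y hy b hbB hbp
            rw [← hb2]
            exact h7
        · push Not at hex
          refine ⟨y, hyB, fun b hb => hy _ (B.pow_mem hb 2) ?_⟩
          rw [← pow_mul, ← pow_succ']
          exact hex b hb
  obtain ⟨y, hyB, hy⟩ := hY
  apply main M 2 (le_refl 2) (by omega) y hyB
  intro b hb hb4
  apply hy b hb
  have : (2 : ℕ) ^ 2 = 4 := by norm_num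
  rw [← this]
  exact hb4

example (hSq : StSq.{u}) : Cfsg.Agent.H17.Tg.StQex1.{u} := qex1 hSq

end Cfsg.Agent.H65.Tg
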