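import Mathlib
import Cfsg.Agent.H67.UmDefs

set_option autoImplicit false
set_option linter.style.haveILetI false
set_option linter.unusedVariables false

/-!
# UM (helper67's team project S2263): shared arithmetic lemmas for the pieces UM-AR2C / UM-AR3
-/

namespace Cfsg.Agent.H65.Um

open Cfsg.Agent.H67.Um

theorem two_le_q {p f : ℕ} (hp : p.Prime) (hf : 1 ≤ f) : 2 ≤ p ^ f :=
  le_trans hp.two_le (Nat.le_self_pow (by omega) p)

theorem p_le_q {p f : ℕ} (hp : p.Prime) (hf : 1 ≤ f) : p ≤ p ^ f :=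
  Nat.le_self_pow (by omega) p

/-- `q + 1 ∣ Qn q a`. -/
theorem succ_dvd_Qn (q a : ℕ) : q + 1 ∣ Qn q a := by
  unfold Qn
  split_ifs with h
  · obtain ⟨c, rfl⟩ := h
    have h1 : q ^ 2 - 1 ∣ (q ^ 2) ^ c - 1 ^ c := Nat.sub_dvd_pow_sub_pow (q ^ 2) 1 c
    have h2 : q + 1 ∣ q ^ 2 - 1 := by
      refine ⟨q - 1, ?_⟩
      rcases Nat.eq_zero_or_pos q with h0 | h0
      · subst h0; simp
      · obtain ⟨r, rfl⟩ := Nat.exists_eq_add_of_le' h0
        have e1 : (r + 1) ^ 2 - 1 = r * r + 2 * r := by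
          have : (r + 1) ^ 2 = r * r + 2 * r + 1 := by ring
          omega
        have e2 : (r + 1 + 1) * (r + 1 - 1) = r * r + 2 * r := by
          rw [Nat.add_sub_cancel]; ring
        rw [e1, e2]
    rw [one_pow, ← pow_mul, two_mul] at h1
    exact h2.trans h1
  · have ho : Odd a := Nat.not_even_iff_odd.mp h
    have h1 := ho.nat_add_dvd_pow_add_pow q 1
    rwa [one_pow] at h1

theorem Qn_le (q a : ℕ) : Qn q a ≤ q ^ a + 1 := by
  unfold Qn; split_ifs <;> omega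

theorem Qn_pos (q a : ℕ) (hq : 2 ≤ q) (ha : 1 ≤ a) : 1 ≤ Qn q a := by
  unfold Qn
  split_ifs
  · have h1 : q ^ 1 ≤ q ^ a := Nat.pow_le_pow_right (by omega) ha
    rw [pow_one] at h1
    omega
  · omega

theorem Qn_one (q : ℕ) : Qn q 1 = q + 1 := by
  unfold Qn; simp

/-- the key inequality `(q^a + 1)(q^b + 1) ≤ (q + 1)(q^(a+b-1) + 1)`. -/
theorem key_ineq (q a b : ℕ) (ha : 1 ≤ a) (hb : 1 ≤ b) (hq : 1 ≤ q) :
    (q ^ a + 1) * (q ^ b + 1) ≤ (q + 1) * (q ^ (a + b - 1) + 1) := by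
  obtain ⟨a', rfl⟩ := Nat.exists_eq_add_of_le' ha
  obtain ⟨b', rfl⟩ := Nat.exists_eq_add_of_le' hb
  have e : a' + 1 + (b' + 1) - 1 = a' + b' + 1 := by omega
  rw [e]
  have hx : 1 ≤ q ^ a' := Nat.one_le_pow _ _ hq
  have hy : 1 ≤ q ^ b' := Nat.one_le_pow _ _ hq
  obtain ⟨x, hx'⟩ := Nat.exists_eq_add_of_le' hx
  obtain ⟨y, hy'⟩ := Nat.exists_eq_add_of_le' hy
  have e2 : q ^ (a' + b' + 1) = q ^ a' * q ^ b' * q := by ring
  rw [pow_succ, pow_succ, e2, hx', hy']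
  nlinarith [Nat.zero_le (q * x * y)]

/-- the target is at least `q ^ (d - 1) - 1`. -/
theorem tgt_ge (p f d : ℕ) (hp : p.Prime) (hf : 1 ≤ f) (hd : 3 ≤ d) :
    (p ^ f) ^ (d - 1) - 1 ≤ tgt p f d := by
  have hq : 2 ≤ p ^ f := two_le_q hp hf
  unfold tgt
  split_ifs with h1 h2 h3
  · exact le_rfl
  · have hf1 : f = 1 := by omega
    subst hf1
    rw [pow_one]
    have e : p ^ (d - 1) = p ^ (d - 2) * p := by
      rw [← pow_succ]; congr 1; omega
    rw [e, add_mul]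
    omega
  · omega
  · have hq2 : p ^ f = 2 := by omega
    rw [hq2]
    have e : 2 ^ (d - 1) = 4 * 2 ^ (d - 3) := by
      have e' : d - 1 = (d - 3) + 2 := by omega
      rw [e', pow_add]; ring
    omega

/-- `q ^ (n + 1) + q ^ n + 1 ≤ q ^ (n + 2)` for `q ≥ 2`. -/
theorem pow_bound (q n : ℕ) (hq : 2 ≤ q) : q ^ (n + 1) + q ^ n + 1 ≤ q ^ (n + 2) := by
  have hX : 1 ≤ q ^ n := Nat.one_le_pow _ _ (by omega)
  have e1 : q ^ (n + 1) = q ^ n * q := pow_succ q n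
  have e2 : q ^ (n + 2) = q ^ n * q * q := by ring
  rw [e1, e2]
  have h1 : q ^ n * q * 2 ≤ q ^ n * q * q := Nat.mul_le_mul_left _ hq
  have h2 : q ^ n * 2 ≤ q ^ n * q := Nat.mul_le_mul_left _ hq
  omega

/-- from `p ^ f = 2`: `p = 2` and `f = 1`. -/
theorem pf_eq_two {p f : ℕ} (hp : p.Prime) (hf : 1 ≤ f) (h : p ^ f = 2) : p = 2 ∧ f = 1 := by
  have h1 : p ∣ 2 := by
    rw [← h]; exact dvd_pow_self p (by omega)
  have hp2 : p = 2 := (Nat.prime_dvd_prime_iff_eq hp Nat.prime_two).mp h1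
  subst hp2
  refine ⟨rfl, ?_⟩
  have h2 : 2 ^ f = 2 ^ 1 := by rw [h, pow_one]
  exact Nat.pow_right_injective (le_refl 2) h2

end Cfsg.Agent.H65.Um
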