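import Mathlib
import Cfsg.Agent.H67.UmDefs
import Cfsg.Agent.H65.UmArith

set_option autoImplicit false
set_option linter.style.haveILetI false
set_option linter.unusedVariables false

/-!
# UM-AR2C (helper67's team project S2263): two parts, largest multiplicity three

For parts `(a, 3)`, `(b, m)` with `m ≤ 3`: `L = Qn a * Qn b / (q + 1) ≤ q ^ (a + b - 1) + 1` and
`a + b ≤ d - 2`; `p ^ t = p` for `p ≥ 3` and `4` for `p = 2`.  For `q = 2`, `d` odd and
`a + b = d - 2` (i.e. `a = 1`, `m = 1`, `b = d - 3` even) take `L = Qn b = 2 ^ b - 1`.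
-/

namespace Cfsg.Agent.H65.Um

open Cfsg.Agent.H67.Um

theorem ar2c_aux (p f d a b m : ℕ) (hp : p.Prime) (hf : 1 ≤ f) (ha : 1 ≤ a) (hb : 1 ≤ b)
    (hm1 : 1 ≤ m) (hm3 : m ≤ 3) (hd : a * 3 + b * m = d) : Ar2C p f d a 3 b m := by
  have hq : 2 ≤ p ^ f := two_le_q hp hf
  have hbm : b ≤ b * m := Nat.le_mul_of_pos_right b (by omega)
  have hd4 : 4 ≤ d := by omega
  have hd3 : 3 ≤ d := by omega
  have htgt := tgt_ge p f d hp hf hd3
  unfold Ar2C
  by_cases hspecial : p ^ f = 2 ∧ Odd d ∧ a = 1 ∧ m = 1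
  · obtain ⟨hq2, hdo, ha1, hm1'⟩ := hspecial
    subst ha1; subst hm1'
    obtain ⟨hp2, hf1⟩ := pf_eq_two hp hf hq2
    subst hp2; subst hf1
    have hbd : b + 3 = d := by omega
    have hbe : Even b := by
      rcases Nat.even_or_odd b with h | h
      · exact h
      · exfalso
        have : Even d := by
          rw [← hbd]
          exact Odd.add_odd h (by decide)
        exact (Nat.not_even_iff_odd.mpr hdo) this
    refine ⟨Qn (2 ^ 1) b, 2, Qn_pos _ _ (by norm_num) hb, ?_, dvd_rfl, by norm_num, by norm_num, ?_⟩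
    · rw [Qn_one]; exact succ_dvd_Qn _ b
    · have hQ : Qn (2 ^ 1) b = 2 ^ b - 1 := by
        unfold Qn; rw [if_pos hbe, pow_one]
      have ht : tgt 2 1 d = (2 ^ (d - 2) + 1) * 2 := by
        unfold tgt; rw [if_pos hdo, if_neg (by norm_num)]
      have e : 2 ^ (d - 2) = 2 * 2 ^ b := by
        have : d - 2 = b + 1 := by omega
        rw [this, pow_succ]; ring
      rw [hQ, ht, e]
      have : 1 ≤ 2 ^ b := Nat.one_le_pow _ _ (by norm_num)
      omega
  · obtain ⟨A, hA⟩ := succ_dvd_Qn (p ^ f) a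
    obtain ⟨B, hB⟩ := succ_dvd_Qn (p ^ f) b
    have hApos : 1 ≤ A := by
      have h1 := Qn_pos (p ^ f) a hq ha
      rw [hA] at h1
      rcases Nat.eq_zero_or_pos A with h0 | h0
      · rw [h0] at h1; simp at h1
      · exact h0
    have hBpos : 1 ≤ B := by
      have h1 := Qn_pos (p ^ f) b hq hb
      rw [hB] at h1
      rcases Nat.eq_zero_or_pos B with h0 | h0
      · rw [h0] at h1; simp at h1
      · exact h0
    have hL : (p ^ f + 1) * A * B ≤ (p ^ f) ^ (a + b - 1) + 1 := by
      have h1 : (p ^ f + 1) * ((p ^ f + 1) * A * B) = Qn (p ^ f) a * Qn (p ^ f) b := by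
        rw [hA, hB]; ring
      have h2 : Qn (p ^ f) a * Qn (p ^ f) b ≤ ((p ^ f) ^ a + 1) * ((p ^ f) ^ b + 1) :=
        Nat.mul_le_mul (Qn_le _ a) (Qn_le _ b)
      have h3 := key_ineq (p ^ f) a b ha hb (by omega)
      exact Nat.le_of_mul_le_mul_left (by rw [h1]; exact h2.trans h3) (by omega : 0 < p ^ f + 1)
    have hLpos : 1 ≤ (p ^ f + 1) * A * B :=
      Nat.mul_pos (Nat.mul_pos (by omega) hApos) hBpos
    have hdvd1 : Qn (p ^ f) a ∣ (p ^ f + 1) * A * B := by
      rw [hA]; exact Dvd.intro _ rfl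
    have hdvd2 : Qn (p ^ f) b ∣ (p ^ f + 1) * A * B := by
      rw [hB]; exact ⟨A, by ring⟩
    -- generic bound on the exponent
    have hab : a + b - 1 ≤ d - 3 := by omega
    have hpow : (p ^ f) ^ (a + b - 1) ≤ (p ^ f) ^ (d - 3) := Nat.pow_le_pow_right (by omega) hab
    by_cases hq2 : p ^ f = 2
    · -- q = 2: p = 2, f = 1, p ^ t = 4
      obtain ⟨hp2, hf1⟩ := pf_eq_two hp hf hq2
      subst hp2; subst hf1
      refine ⟨(2 ^ 1 + 1) * A * B, 2, hLpos, hdvd1, hdvd2, by norm_num, by norm_num; omega, ?_⟩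
      rw [pow_one] at hL hpow ⊢
      by_cases hdo : Odd d
      · have ht : tgt 2 1 d = (2 ^ (d - 2) + 1) * 2 := by
          unfold tgt; rw [if_pos hdo, if_neg (by norm_num)]
        rw [ht]
        -- a + b ≤ d - 3
        have hab' : a + b - 1 ≤ d - 4 := by
          by_cases ha1 : a = 1
          · have hm2 : 2 ≤ m := by
              by_contra hcon
              exact hspecial ⟨by norm_num, hdo, ha1, by omega⟩
            have : b * 2 ≤ b * m := Nat.mul_le_mul_left b hm2
            omega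
          · omega
        have hpow' : 2 ^ (a + b - 1) ≤ 2 ^ (d - 4) := Nat.pow_le_pow_right (by norm_num) hab'
        have e : 2 ^ (d - 2) = 4 * 2 ^ (d - 4) := by
          have : d - 2 = (d - 4) + 2 := by omega
          rw [this, pow_add]; ring
        have h1 : 1 ≤ 2 ^ (d - 4) := Nat.one_le_pow _ _ (by norm_num)
        rw [e]
        omega
      · have ht : tgt 2 1 d = 4 * (2 ^ (d - 3) + 1) := by
          unfold tgt; rw [if_neg hdo, if_neg (by norm_num)]
        rw [ht]
        omega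
    · -- q > 2: p ^ t ≤ q
      have hq3 : 3 ≤ p ^ f := by omega
      obtain ⟨t, ht3, htq⟩ : ∃ t, 3 ≤ p ^ t ∧ p ^ t ≤ p ^ f := by
        by_cases hp2 : p = 2
        · subst hp2
          have hf2 : 2 ≤ f := by
            by_contra hcon
            have : f = 1 := by omega
            subst this
            norm_num at hq2
          exact ⟨2, by norm_num, Nat.pow_le_pow_right (by norm_num) hf2⟩
        · have := hp.two_le
          exact ⟨1, by rw [pow_one]; omega, Nat.pow_le_pow_right (by omega) hf⟩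
      refine ⟨(p ^ f + 1) * A * B, t, hLpos, hdvd1, hdvd2, ht3, by omega, ?_⟩
      refine le_trans ?_ htgt
      have h1 : (p ^ f + 1) * A * B * p ^ t ≤ ((p ^ f) ^ (d - 3) + 1) * p ^ f :=
        Nat.mul_le_mul (hL.trans (by omega)) htq
      refine le_trans h1 ?_
      -- (q^(d-3) + 1) * q ≤ q^(d-1) - 1
      obtain ⟨n, rfl⟩ : ∃ n, d = n + 4 := ⟨d - 4, by omega⟩
      have e1 : n + 4 - 3 = n + 1 := by omega
      have e2 : n + 4 - 1 = n + 3 := by omega
      rw [e1, e2]
      have hb1 := pow_bound (p ^ f) (n + 1) hq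
      have e3 : ((p ^ f) ^ (n + 1) + 1) * p ^ f = (p ^ f) ^ (n + 2) + p ^ f := by ring
      have h4 : p ^ f ≤ (p ^ f) ^ (n + 1) := Nat.le_self_pow (by omega) _
      rw [e3]
      have e4 : n + 1 + 2 = n + 3 := by omega
      rw [e4] at hb1
      have e5 : n + 1 + 1 = n + 2 := by omega
      rw [e5] at hb1
      omega

theorem ar2c : StAr2c := by
  intro p f d a k b m hp hf hd hne ha hk hb hm hsum hmax
  by_cases hk3 : k = 3
  · subst hk3
    have hm3 : m ≤ 3 := by
      have := le_max_right 3 m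
      omega
    exact ar2c_aux p f d a b m hp hf ha hb hm hm3 hsum
  · have hm3 : m = 3 := by
      rcases max_choice k m with h | h <;> omega
    subst hm3
    have hk3' : k ≤ 3 := by
      have := le_max_left k 3
      omega
    obtain ⟨L, t, h1, h2, h3, h4, h5, h6⟩ :=
      ar2c_aux p f d b a k hp hf hb ha hk hk3' (by omega)
    exact ⟨L, t, h1, h3, h2, h5, h4, h6⟩

end Cfsg.Agent.H65.Um

example : Cfsg.Agent.H67.Um.StAr2c := Cfsg.Agent.H65.Um.ar2c
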