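import Mathlib
import Cfsg.Agent.H58.UqDefs
import Cfsg.Agent.H14.Thompson

set_option autoImplicit false
set_option linter.style.haveILetI false
set_option linter.unusedVariables false

/-!
# UQ-ORB (helper58's team project S2950): the orbit of `K` under `⟨N_L(J), N_{L'}(J)⟩`

Induction on the closure (with the statement for `ρ` and `ρ⁻¹` together).  For a generator
`x ∈ L ⊓ N(J)`: `K ^ x ∈ 𝒦₀(T ^ x) = 𝒦₀(T)` since `J(T ^ x) = J ^ x = J`, `K ^ x ≤ L`, and
`K ^ x ≤ L'` by KEY with the roles of `L`, `L'` exchanged.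
-/

namespace Cfsg.Agent.H65.Uq

open Cfsg Cfsg.Agent.H58.Uq

universe u

theorem map_conj_mul {G : Type u} [Group G] (K : Subgroup G) (a b : G) :
    K.map (MulAut.conj (a * b)).toMonoidHom =
      (K.map (MulAut.conj b).toMonoidHom).map (MulAut.conj a).toMonoidHom := by
  ext y
  constructor
  · rintro ⟨k, hk, rfl⟩
    refine ⟨b * k * b⁻¹, ⟨k, hk, rfl⟩, ?_⟩
    show a * (b * k * b⁻¹) * a⁻¹ = a * b * k * (a * b)⁻¹
    group
  · rintro ⟨_, ⟨k, hk, rfl⟩, rfl⟩
    refine ⟨k, hk, ?_⟩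
    show a * b * k * (a * b)⁻¹ = a * (b * k * b⁻¹) * a⁻¹
    group

theorem map_conj_one {G : Type u} [Group G] (K : Subgroup G) :
    K.map (MulAut.conj (1 : G)).toMonoidHom = K := by
  ext y
  constructor
  · rintro ⟨k, hk, rfl⟩
    show (1 : G) * k * (1 : G)⁻¹ ∈ K
    simpa using hk
  · intro hy
    exact ⟨y, hy, by show (1 : G) * y * (1 : G)⁻¹ = y; simp⟩

theorem map_conj_le_of_mem {G : Type u} [Group G] (K L : Subgroup G) (x : G) (hK : K ≤ L)
    (hx : x ∈ L) : K.map (MulAut.conj x).toMonoidHom ≤ L := by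
  rintro _ ⟨k, hk, rfl⟩
  exact L.mul_mem (L.mul_mem hx (hK hk)) (L.inv_mem hx)

theorem map_conj_of_mem_normalizer {G : Type u} [Group G] (J : Subgroup G) (x : G)
    (hx : x ∈ Subgroup.normalizer (J : Set G)) : J.map (MulAut.conj x).toMonoidHom = J := by
  rw [Subgroup.mem_normalizer_iff] at hx
  ext y
  constructor
  · rintro ⟨j, hj, rfl⟩
    exact (hx j).mp hj
  · intro hy
    refine ⟨x⁻¹ * y * x, ?_, ?_⟩
    · apply (hx _).mpr
      have e : x * (x⁻¹ * y * x) * x⁻¹ = y := by group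
      rw [e]; exact hy
    · show x * (x⁻¹ * y * x) * x⁻¹ = y
      group

theorem orb (hKey : StKey.{u}) (hK : StK0Conj.{u}) : StOrb.{u} := by
  intro G _ _ hZN T hT hT1 L L' T₁ T₂ hLmax hL'max hLT hL'T hJ1 hJ2
  have hJx : ∀ x ∈ Subgroup.normalizer (thompsonSubgroupOf 2 T : Set G),
      thompsonSubgroupOf 2 (T.map (MulAut.conj x).toMonoidHom) = thompsonSubgroupOf 2 T := by
    intro x hx
    rw [← Cfsg.Agent.H14.thompsonSubgroupOf_conj 2 x T]
    exact map_conj_of_mem_normalizer _ x hx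
  have hgen1 : ∀ x ∈ L ⊓ Subgroup.normalizer (thompsonSubgroupOf 2 T : Set G),
      ∀ K : Subgroup G, K ∈ jComponentsZero T → K ≤ L → K ≤ L' →
      K.map (MulAut.conj x).toMonoidHom ∈ jComponentsZero T ∧
        K.map (MulAut.conj x).toMonoidHom ≤ L ∧ K.map (MulAut.conj x).toMonoidHom ≤ L' := by
    intro x hx K hK0 hKL hKL'
    have h1 := hK T K x hK0
    rw [(k0_congr T _ (hJx x hx.2)).1] at h1
    exact ⟨h1, map_conj_le_of_mem K L x hKL hx.1,
      hKey hZN T hT hT1 L' L T₂ T₁ hL'max hL'T hLT hJ2 hJ1 K hK0 hKL' hKL x hx.1⟩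
  have hgen2 : ∀ x ∈ L' ⊓ Subgroup.normalizer (thompsonSubgroupOf 2 T : Set G),
      ∀ K : Subgroup G, K ∈ jComponentsZero T → K ≤ L → K ≤ L' →
      K.map (MulAut.conj x).toMonoidHom ∈ jComponentsZero T ∧
        K.map (MulAut.conj x).toMonoidHom ≤ L ∧ K.map (MulAut.conj x).toMonoidHom ≤ L' := by
    intro x hx K hK0 hKL hKL'
    have h1 := hK T K x hK0
    rw [(k0_congr T _ (hJx x hx.2)).1] at h1
    exact ⟨h1, hKey hZN T hT hT1 L L' T₁ T₂ hLmax hLT hL'T hJ1 hJ2 K hK0 hKL hKL' x hx.1,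
      map_conj_le_of_mem K L' x hKL' hx.1⟩
  intro K hK0 hKL hKL' ρ hρ
  have hcl : (L ⊓ Subgroup.normalizer (thompsonSubgroupOf 2 T : Set G)) ⊔
      (L' ⊓ Subgroup.normalizer (thompsonSubgroupOf 2 T : Set G)) =
      Subgroup.closure
        (((L ⊓ Subgroup.normalizer (thompsonSubgroupOf 2 T : Set G) : Subgroup G) : Set G) ∪
          ((L' ⊓ Subgroup.normalizer (thompsonSubgroupOf 2 T : Set G) : Subgroup G) : Set G)) := by
    rw [Subgroup.closure_union, Subgroup.closure_eq, Subgroup.closure_eq]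
  rw [hcl] at hρ
  have key : (∀ K : Subgroup G, K ∈ jComponentsZero T → K ≤ L → K ≤ L' →
      K.map (MulAut.conj ρ).toMonoidHom ∈ jComponentsZero T ∧
        K.map (MulAut.conj ρ).toMonoidHom ≤ L ∧ K.map (MulAut.conj ρ).toMonoidHom ≤ L') ∧
      (∀ K : Subgroup G, K ∈ jComponentsZero T → K ≤ L → K ≤ L' →
      K.map (MulAut.conj ρ⁻¹).toMonoidHom ∈ jComponentsZero T ∧
        K.map (MulAut.conj ρ⁻¹).toMonoidHom ≤ L ∧ K.map (MulAut.conj ρ⁻¹).toMonoidHom ≤ L') := by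
    induction hρ using Subgroup.closure_induction with
    | mem x hx =>
      rcases hx with hx | hx
      · exact ⟨hgen1 x hx, hgen1 x⁻¹ (inv_mem hx)⟩
      · exact ⟨hgen2 x hx, hgen2 x⁻¹ (inv_mem hx)⟩
    | one =>
      constructor
      · intro K hK0 hKL hKL'
        rw [map_conj_one]
        exact ⟨hK0, hKL, hKL'⟩
      · intro K hK0 hKL hKL'
        rw [inv_one, map_conj_one]
        exact ⟨hK0, hKL, hKL'⟩
    | mul a b _ _ ha hb =>
      constructor
      · intro K hK0 hKL hKL'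
        obtain ⟨h1, h2, h3⟩ := hb.1 K hK0 hKL hKL'
        have h4 := ha.1 _ h1 h2 h3
        rw [← map_conj_mul] at h4
        exact h4
      · intro K hK0 hKL hKL'
        obtain ⟨h1, h2, h3⟩ := ha.2 K hK0 hKL hKL'
        have h4 := hb.2 _ h1 h2 h3
        rw [← map_conj_mul] at h4
        rw [mul_inv_rev]
        exact h4
    | inv a _ ha =>
      refine ⟨ha.2, ?_⟩
      rw [inv_inv]
      exact ha.1
  exact key.1 K hK0 hKL hKL'

end Cfsg.Agent.H65.Uq

universe u in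
example (hKey : Cfsg.Agent.H58.Uq.StKey.{u}) (hK : Cfsg.Agent.H58.Uq.StK0Conj.{u}) :
    Cfsg.Agent.H58.Uq.StOrb.{u} := Cfsg.Agent.H65.Uq.orb hKey hK
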